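import Groth.Agent.TateGlob.K963.Asm

/-!
# Cohomology of the adele ring: abstract form of the statements about `AdFn.locProdS`

For a cohomology theory `𝓗` : `locProdT`, `LocRPT`, `injective_locProdT`, `range_locProdT`,
`injective_locProdT_of_oZero`, `range_locProdT_of_oZero`, `subsingleton_of_oZero`.
-/

set_option autoImplicit false
set_option backward.isDefEq.respectTransparency.types false

universe u

open CategoryTheory CategoryTheory.Limits AlgebraicGeometry Opposite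
open K828 K828.LPre K963.AdLev K963.Asm
open FunFld AdFn
open scoped RestrictedProduct

namespace K963.AsmAbs

variable {k K : Type u} [Field k] [Field K] [Algebra k K] {S : Set (Place k K)}
  (𝓗 : CohT Scheme.fppfPrecoverage (Spec (CommRingCat.of (SInt S))))
  (F : BigSite.Ab Scheme.fppfPrecoverage (Spec (CommRingCat.of (SInt S)))) (n : ℕ)

/-- The classes coming from `O_v`. -/
noncomputable def locSubT (v : Place k K) : AddSubgroup (𝓗.H F n (specOf (SInt.toKv S v))) :=
  ⨆ hv : v ∉ S, (𝓗.res (F := F) (n := n) (intResHom S hv)).range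

/-- The restricted product of the local cohomology groups. -/
abbrev LocRPT : Type (u + 1) :=
  Πʳ v : Place k K, [𝓗.H F n (specOf (SInt.toKv S v)), locSubT 𝓗 F n v]

variable {𝓗 F n} in
theorem mem_locSubT {v : Place k K} (hv : v ∉ S) (z : 𝓗.H F n (specOf (SInt.toKv S v))) :
    z ∈ locSubT 𝓗 F n v ↔ ∃ w, 𝓗.res (intResHom S hv) w = z := by
  rw [locSubT, iSup_pos hv]
  exact Iff.rfl

variable [HasFinitePoles k K]

/-- `H^n(A) → ∏ H^n(K_v)`. -/
noncomputable def locProdT :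
    𝓗.H F n (specOf (SInt.toAd S)) →+ ((v : Place k K) → 𝓗.H F n (specOf (SInt.toKv S v))) :=
  AddMonoidHom.pi fun v => 𝓗.res (F := F) (n := n) (adProjSHom S v)

variable {𝓗 F n}
variable (hS : S.Finite) {T₀ : Set (Place k K)} (hT₀ : T₀.Finite) (hF : LP F.obj)

include hS hT₀ hF

/-- Injectivity of `H^n(A) → ∏ H^n(K_v)`. -/
theorem injective_locProdT (h1 : OInj 𝓗 F n T₀) (h2 : IInj 𝓗 F n T₀) : Function.Injective (locProdT 𝓗 F n) := by
  rw [injective_iff_map_eq_zero]
  intro x hx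
  exact Asm.eq_zero hS hT₀ hF h1 h2 x fun v => congrFun hx v

/-- The image is the restricted product. -/
theorem range_locProdT (h1 : OSurj 𝓗 F n T₀) :
    Set.range (locProdT 𝓗 F n) =
      Set.range (fun y : LocRPT 𝓗 F n => (⇑y : (v : Place k K) → 𝓗.H F n (specOf (SInt.toKv S v)))) := by
  apply Set.Subset.antisymm
  · rintro _ ⟨x, rfl⟩
    have h := Asm.eventually_mem hS hT₀ hF x
    refine ⟨⟨locProdT 𝓗 F n x, ?_⟩, rfl⟩
    refine h.mono fun v ⟨hv, w, hw⟩ => ?_
    exact (mem_locSubT hv _).2 ⟨w, hw⟩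
  · rintro _ ⟨y, rfl⟩
    have hy : ∀ᶠ v in Filter.cofinite, y.1 v ∈ locSubT 𝓗 F n v := y.2
    have hy2 : ∀ᶠ v in Filter.cofinite, v ∉ S := hS.compl_mem_cofinite
    obtain ⟨x, hx⟩ := Asm.exists_of_eventually hS hT₀ h1 y.1
      ((hy.and hy2).mono fun v ⟨h3, hv⟩ => ⟨hv, (mem_locSubT hv _).1 h3⟩)
    exact ⟨x, funext hx⟩

/-- Both. -/
theorem injective_and_range (h1 : OInj 𝓗 F n T₀) (h2 : IInj 𝓗 F n T₀) (h3 : OSurj 𝓗 F n T₀) :
    Function.Injective (locProdT 𝓗 F n) ∧ Set.range (locProdT 𝓗 F n) =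
      Set.range (fun y : LocRPT 𝓗 F n => (⇑y : (v : Place k K) → 𝓗.H F n (specOf (SInt.toKv S v)))) :=
  ⟨injective_locProdT hS hT₀ hF h1 h2, range_locProdT hS hT₀ hF h3⟩

/-- Injectivity and image when the cohomology of `∏ O_v` vanishes. -/
theorem injective_and_range_of_oZero (h1 : OZero 𝓗 F n T₀) :
    Function.Injective (locProdT 𝓗 F n) ∧ Set.range (locProdT 𝓗 F n) = {x | ∀ᶠ v in Filter.cofinite, x v = 0} := by
  constructor
  · rw [injective_iff_map_eq_zero]
    intro x hx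
    exact Asm.eq_zero_of_oZero hS hT₀ hF h1 x fun v => congrFun hx v
  apply Set.Subset.antisymm
  · rintro _ ⟨x, rfl⟩
    exact Asm.eventually_eq_zero hS hT₀ hF h1 x
  · intro z hz
    obtain ⟨x, hx⟩ := Asm.exists_of_eventually_eq_zero (𝓗 := 𝓗) (F := F) (n := n) hS z hz
    exact ⟨x, funext hx⟩

/-- Vanishing. -/
theorem subsingleton_of_oZero (h1 : OZero 𝓗 F n T₀)
    (h2 : ∀ v : Place k K, Subsingleton (𝓗.H F n (specOf (SInt.toKv S v)))) :
    Subsingleton (𝓗.H F n (specOf (SInt.toAd S))) := by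
  refine ⟨fun x y => sub_eq_zero.1 ?_⟩
  exact Asm.eq_zero_of_forall hS hT₀ hF h1 (fun v z => (h2 v).elim _ _) (x - y)

end K963.AsmAbs
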