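import Groth.Prelude.Def_CGrpSh2
import Groth.Agent.TateLoc.K809.PtsPull
import Groth.Agent.Sga3B.BcIso

/-!
# Internal Hom and change of base

* `homPull t K F M : (pullBig t).obj (homSh F M) ≅ homSh ((pullBig t).obj F) ((pullBig t).obj M)`;
* `gmPull t K : (pullBig t).obj (Gm S) ≅ Gm S'`;
* `dualPull t K F : (pullBig t).obj (dualSh F) ≅ dualSh ((pullBig t).obj F)`;
* `dualPts t K G : (pullBig t).obj (dualSh (pts G)) ≅ dualSh (pts (Red.bc t G))`.
-/

set_option autoImplicit false
universe u

open CategoryTheory CategoryTheory.Limits AlgebraicGeometry Opposite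

noncomputable section

namespace K963.HomPull

variable {S S' : Scheme.{u}} (t : S' ⟶ S)

/-- `Over T ⥤ Over (t_! T)`. -/
abbrev post (T : Over S') : Over T ⥤ Over ((Over.map t).obj T) := Over.post (Over.map t)

instance (T : Over S') : (post t T).Faithful where
  map_injective {U V f g} h := by
    ext
    exact congrArg (fun m => m.left.left) h

instance (T : Over S') : (post t T).Full where
  map_surjective {U V} h := by
    let l : U.left.left ⟶ V.left.left := h.left.left
    have h0 : l ≫ V.hom.left = U.hom.left := congrArg (fun m => m.left) (Over.w h)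
    have h1 : l ≫ V.left.hom = U.left.hom := by
      rw [← Over.w V.hom, ← Over.w U.hom, ← Category.assoc, h0]
    refine ⟨Over.homMk (Over.homMk l h1) (by ext; exact h0), ?_⟩
    ext
    rfl

instance (T : Over S') : (post t T).EssSurj where
  mem_essImage W := by
    have hW : W.hom.left ≫ T.hom ≫ t = W.left.hom := Over.w W.hom
    let V : Over T := Over.mk (Over.homMk W.hom.left : Over.mk (W.hom.left ≫ T.hom) ⟶ T)
    let e : ((post t T).obj V).left ≅ W.left := Over.isoMk (Iso.refl _) (by
      change 𝟙 _ ≫ W.left.hom = (W.hom.left ≫ T.hom) ≫ t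
      rw [← hW, Category.id_comp, Category.assoc])
    exact ⟨V, ⟨Over.isoMk e (by
      ext
      change 𝟙 _ ≫ W.hom.left = W.hom.left
      rw [Category.id_comp])⟩⟩

instance (T : Over S') : (post t T).IsEquivalence where

variable (K : Precoverage Scheme.{u}) (F M : BigSite.Ab K S)

/-- The comparison on sections. -/
def phi (T : Over S') : (F.over ((Over.map t).obj T) ⟶ M.over ((Over.map t).obj T)) →+
    (((BigSite.pullBig K t AddCommGrpCat.{u + 1}).obj F).over T ⟶
      ((BigSite.pullBig K t AddCommGrpCat.{u + 1}).obj M).over T) where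
  toFun φ := ⟨Functor.whiskerLeft (post t T).op φ.hom⟩
  map_zero' := rfl
  map_add' _ _ := rfl

theorem phi_bijective (T : Over S') : Function.Bijective (phi t K F M T) := by
  let W := (Functor.whiskeringLeft (Over T)ᵒᵖ (Over ((Over.map t).obj T))ᵒᵖ AddCommGrpCat.{u + 1}).obj (post t T).op
  have hW : W.IsEquivalence := inferInstance
  constructor
  · intro φ ψ h
    apply Sheaf.hom_ext
    apply W.map_injective
    exact congrArg (fun m => m.hom) h
  · intro ψ
    obtain ⟨χ, hχ⟩ := W.map_surjective (X := (F.over ((Over.map t).obj T)).obj)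
      (Y := (M.over ((Over.map t).obj T)).obj) ψ.hom
    exact ⟨⟨χ⟩, Sheaf.hom_ext hχ⟩

/-- `𝓗om` commutes with change of base. -/
def homPull : (BigSite.pullBig K t AddCommGrpCat.{u + 1}).obj (HomSh.homSh (QuotSh.J K S) F M) ≅
    HomSh.homSh (QuotSh.J K S') ((BigSite.pullBig K t AddCommGrpCat.{u + 1}).obj F)
      ((BigSite.pullBig K t AddCommGrpCat.{u + 1}).obj M) :=
  (fullyFaithfulSheafToPresheaf _ _).preimageIso (NatIso.ofComponents (fun T => AddEquiv.toAddCommGrpIso
      (AddEquiv.ofBijective (phi t K F M (unop T)) (phi_bijective t K F M (unop T))))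
    (fun {T T'} f => by
      ext φ
      refine Sheaf.hom_ext (NatTrans.ext (funext fun U => AddCommGrpCat.ext fun x => ?_))
      exact HomSh.app_over_mk_congr (QuotSh.J K S) (φ : F.over ((Over.map t).obj (unop T)) ⟶ M.over _) (by
        ext; rfl) x))

/-- Functoriality of `𝓗om` for isomorphisms. -/
def homShIso {C : Type (u + 1)} [Category.{u} C] (J : GrothendieckTopology C)
    {F F' M M' : Sheaf J AddCommGrpCat.{u + 1}} (α : F ≅ F') (β : M ≅ M') :
    HomSh.homSh J F M ≅ HomSh.homSh J F' M' where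
  hom := HomSh.homShMap J α.inv β.hom
  inv := HomSh.homShMap J α.hom β.inv
  hom_inv_id := by
    rw [← HomSh.homShMap_comp, α.hom_inv_id, β.hom_inv_id, HomSh.homShMap_id]
  inv_hom_id := by
    rw [← HomSh.homShMap_comp, α.inv_hom_id, β.inv_hom_id, HomSh.homShMap_id]

section gm

variable [(QuotSh.J K S).Subcanonical] [(QuotSh.J K S').Subcanonical]

/-- Isomorphic group schemes have isomorphic sheaves of points. -/
def ptsIso {G H : Over S} [GrpObj G] [IsCommMonObj G] [GrpObj H] [IsCommMonObj H] (e : G ≅ H) [IsMonHom e.hom] :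
    CGrpSh.pts K G ≅ CGrpSh.pts K H where
  hom := CGrpSh.ptsMap K e.hom
  inv := CGrpSh.ptsMap K e.inv
  hom_inv_id := by
    rw [← CGrpSh.ptsMap_comp]
    simp only [e.hom_inv_id]
    exact CGrpSh.ptsMap_id _
  inv_hom_id := by
    rw [← CGrpSh.ptsMap_comp]
    simp only [e.inv_hom_id]
    exact CGrpSh.ptsMap_id _

/-- Base change of the multiplicative group. -/
def gmBc : Grp.mk (Red.bc t (Red.Gm S)) ≅ Grp.mk (Red.Gm S') :=
  (Groth.Agent.Sga3B.BcIso.bcCompIso t (Limits.IsTerminal.from specULiftZIsTerminal S)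
    (Red.diag (ULift.{u} ℤ) ℤ)).symm ≪≫
    Groth.Agent.Sga3B.BcIso.bcCongrIso (specULiftZIsTerminal.hom_ext _ _) _

/-- The underlying isomorphism of schemes. -/
def gmBc' : Red.bc t (Red.Gm S) ≅ Red.Gm S' := (Grp.forget _).mapIso (gmBc t)

instance : IsMonHom (gmBc' t).hom := inferInstanceAs (IsMonHom (gmBc t).hom.hom.hom)

/-- Restriction of the sheaf `Gm`. -/
def gmPull : (BigSite.pullBig K t AddCommGrpCat.{u + 1}).obj (CGrpSh2.Gm K S) ≅ CGrpSh2.Gm K S' :=
  K809.PtsPull.ptsPull K t (Red.Gm S) ≪≫ ptsIso K (gmBc' t)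

/-- Restriction of the dual sheaf. -/
def dualPull : (BigSite.pullBig K t AddCommGrpCat.{u + 1}).obj (CGrpSh2.dualSh K F) ≅
    CGrpSh2.dualSh K ((BigSite.pullBig K t AddCommGrpCat.{u + 1}).obj F) :=
  homPull t K F (CGrpSh2.Gm K S) ≪≫ homShIso _ (Iso.refl _) (gmPull t K)

/-- Isomorphic sheaves have isomorphic duals. -/
def dualIso {F F' : BigSite.Ab K S} (α : F ≅ F') : CGrpSh2.dualSh K F ≅ CGrpSh2.dualSh K F' :=
  homShIso _ α (Iso.refl _)

/-- Restriction of the dual sheaf of a group scheme. -/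
def dualPts (G : Over S) [GrpObj G] [IsCommMonObj G] :
    (BigSite.pullBig K t AddCommGrpCat.{u + 1}).obj (CGrpSh2.dualSh K (CGrpSh.pts K G)) ≅
      CGrpSh2.dualSh K (CGrpSh.pts K (Red.bc t G)) :=
  dualPull t K (CGrpSh.pts K G) ≪≫ dualIso K (K809.PtsPull.ptsPull K t G)

end gm

end K963.HomPull
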