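import Groth.Agent.TateGlob.K963.Trans
import Groth.Agent.TateGlob.K963.HomPull
import Groth.Agent.TateGlob.K620.ModS
import Groth.Agent.TateGlob.K620.MdlPts
import Groth.Agent.CGrpSh.K731.Full
import Groth.Agent.TateGlob.K829.SIntNoeth

/-!
# Change of model

* `exists_common`: two models of one group over `K` become isomorphic, as sheaves, over some `O_T`.
* `pInj_iff_of_iso`, `pSurj_iff_of_iso`, `pZero_iff_of_iso`: the conditions on `∏_{v ∉ T} O_v` for isomorphic sheaves.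
* `dualIso_of_iso`: the same isomorphism for the dual sheaves.
-/

set_option autoImplicit false
set_option backward.isDefEq.respectTransparency.types false

universe u

open CategoryTheory CategoryTheory.Limits AlgebraicGeometry Opposite
open K828 K828.BigCoh K963.BcCoh K963.AdLev K963.Asm K963.Trans
open FunFld AdFn

namespace K963.Mod

variable {k K : Type u} [Field k] [Field K] [Algebra k K]

section Models

/-- The model of the generic fibre given by a group scheme over `O_S`. -/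
noncomputable def mdl {S : Set (Place k K)} (𝒢 : Over (Spec (CommRingCat.of (SInt S)))) [GrpObj 𝒢] [IsCommMonObj 𝒢]
    [Flat 𝒢.hom] [IsSeparated 𝒢.hom] [LocallyOfFinitePresentation 𝒢.hom] [QuasiCompact 𝒢.hom]
    (G : Over (Spec (CommRingCat.of K))) [GrpObj G] [IsCommMonObj G]
    (m : ModelIso Scheme.fppfPrecoverage S 𝒢 G) : K620.GMod.MdlS S G where
  X := 𝒢
  e := K731.Full.iso ((K809.PtsPull.ptsPull Scheme.fppfPrecoverage (Spec.map (CommRingCat.ofHom (SInt.toK S))) 𝒢).symm ≪≫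
    (m : (BigSite.pullBig Scheme.fppfPrecoverage (Spec.map (CommRingCat.ofHom (SInt.toK S))) AddCommGrpCat.{u + 1}).obj
      (CGrpSh.pts Scheme.fppfPrecoverage 𝒢) ≅ CGrpSh.pts Scheme.fppfPrecoverage G))
  mon := K731.Full.isMonHom_hom _

variable {x : K} (hx : K660.Places.IsGen k K x)

include hx in
/-- Two models agree over some `O_T`. -/
theorem exists_common {S₁ S₂ : Set (Place k K)} (h₁ : S₁.Finite) (h₁' : S₁.Nonempty) (h₂ : S₂.Finite)
    (h₂' : S₂.Nonempty) (G₁ : Over (Spec (CommRingCat.of (SInt S₁)))) [GrpObj G₁] [IsCommMonObj G₁]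
    [Flat G₁.hom] [IsSeparated G₁.hom] [LocallyOfFiniteType G₁.hom] [QuasiCompact G₁.hom]
    (G₂ : Over (Spec (CommRingCat.of (SInt S₂)))) [GrpObj G₂] [IsCommMonObj G₂]
    [Flat G₂.hom] [IsSeparated G₂.hom] [LocallyOfFiniteType G₂.hom] [QuasiCompact G₂.hom]
    (G : Over (Spec (CommRingCat.of K))) [GrpObj G] [IsCommMonObj G]
    (m₁ : ModelIso Scheme.fppfPrecoverage S₁ G₁ G) (m₂ : ModelIso Scheme.fppfPrecoverage S₂ G₂ G) :
    ∃ (T : Set (Place k K)) (_ : T.Finite) (h : S₁ ⊆ T) (h' : S₂ ⊆ T),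
      Nonempty ((BigSite.pullBig Scheme.fppfPrecoverage (Spec.map (CommRingCat.ofHom (inc h)))
          AddCommGrpCat.{u + 1}).obj (CGrpSh.pts Scheme.fppfPrecoverage G₁) ≅
        (BigSite.pullBig Scheme.fppfPrecoverage (Spec.map (CommRingCat.ofHom (inc h')))
          AddCommGrpCat.{u + 1}).obj (CGrpSh.pts Scheme.fppfPrecoverage G₂)) := by
  have hfp : K620.Sys.FinPoles k K := K620.Sys.finPoles_of_isGen hx
  have n1 := K829.SIntNoeth.isNoetherianRing hx S₁
  have n2 := K829.SIntNoeth.isNoetherianRing hx S₂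
  have l1 : LocallyOfFinitePresentation G₁.hom := inferInstance
  have l2 : LocallyOfFinitePresentation G₂.hom := inferInstance
  obtain ⟨T, hT, h, h', θ, hθ⟩ := K620.GMod.exists_eqvS h₁ h₁' h₂ h₂' (mdl G₁ G m₁) (mdl G₂ G m₂)
  refine ⟨T, hT, h, h', ⟨?_⟩⟩
  let θ' : Red.bc (Spec.map (CommRingCat.ofHom (inc h))) G₁ ≅ Red.bc (Spec.map (CommRingCat.ofHom (inc h'))) G₂ := θ
  have hm : IsMonHom θ'.hom := hθ.isMonHom
  exact K809.PtsPull.ptsPull Scheme.fppfPrecoverage (Spec.map (CommRingCat.ofHom (inc h))) G₁ ≪≫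
    HomPull.ptsIso Scheme.fppfPrecoverage θ' ≪≫
    (K809.PtsPull.ptsPull Scheme.fppfPrecoverage (Spec.map (CommRingCat.ofHom (inc h'))) G₂).symm

end Models

section Transfer

variable {S₁ S₂ T₁ : Set (Place k K)} (h₁ : S₁ ⊆ T₁) (h₂ : S₂ ⊆ T₁)
  {F₁ : BigSite.Ab Scheme.fppfPrecoverage (Spec (CommRingCat.of (SInt S₁)))}
  {F₂ : BigSite.Ab Scheme.fppfPrecoverage (Spec (CommRingCat.of (SInt S₂)))}
  (β : (BigSite.pullBig Scheme.fppfPrecoverage (Spec.map (CommRingCat.ofHom (inc h₁))) AddCommGrpCat.{u + 1}).obj F₁ ≅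
    (BigSite.pullBig Scheme.fppfPrecoverage (Spec.map (CommRingCat.ofHom (inc h₂))) AddCommGrpCat.{u + 1}).obj F₂)
  (n : ℕ) {T : Set (Place k K)} (h : T₁ ⊆ T)

include β

theorem pInj_iff_of_iso : PInj (bigCoh _ _) F₁ n (h₁.trans h) ↔ PInj (bigCoh _ _) F₂ n (h₂.trans h) :=
  (pInj_iff h₁ (cmp _) β h).trans (pInj_iff h₂ (cmp _) (Iso.refl _) h).symm

theorem pSurj_iff_of_iso : PSurj (bigCoh _ _) F₁ n (h₁.trans h) ↔ PSurj (bigCoh _ _) F₂ n (h₂.trans h) :=
  (pSurj_iff h₁ (cmp _) β h).trans (pSurj_iff h₂ (cmp _) (Iso.refl _) h).symm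

theorem pZero_iff_of_iso : PZero (bigCoh _ _) F₁ n (h₁.trans h) ↔ PZero (bigCoh _ _) F₂ n (h₂.trans h) :=
  (pZero_iff h₁ (cmp _) β h).trans (pZero_iff h₂ (cmp _) (Iso.refl _) h).symm

end Transfer

/-- Restrictions of dual sheaves. -/
noncomputable def dualIso_of_iso {R R₁ R₂ : Scheme.{u}} (t₁ : R ⟶ R₁) (t₂ : R ⟶ R₂)
    {F₁ : BigSite.Ab Scheme.fppfPrecoverage R₁} {F₂ : BigSite.Ab Scheme.fppfPrecoverage R₂}
    (β : (BigSite.pullBig Scheme.fppfPrecoverage t₁ AddCommGrpCat.{u + 1}).obj F₁ ≅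
      (BigSite.pullBig Scheme.fppfPrecoverage t₂ AddCommGrpCat.{u + 1}).obj F₂) :
    (BigSite.pullBig Scheme.fppfPrecoverage t₁ AddCommGrpCat.{u + 1}).obj
        (CGrpSh2.dualSh Scheme.fppfPrecoverage F₁) ≅
      (BigSite.pullBig Scheme.fppfPrecoverage t₂ AddCommGrpCat.{u + 1}).obj
        (CGrpSh2.dualSh Scheme.fppfPrecoverage F₂) :=
  HomPull.dualPull t₁ Scheme.fppfPrecoverage F₁ ≪≫ HomPull.dualIso Scheme.fppfPrecoverage β ≪≫
    (HomPull.dualPull t₂ Scheme.fppfPrecoverage F₂).symm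

end K963.Mod
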