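import Groth.Agent.TateGlob.K963.KvVan
import Groth.Agent.TateGlob.K963.Mod
import Groth.Agent.TateGlob.K963.AsmAbs
import Groth.Agent.TateGlob.K827.Abs
import Groth.Agent.TateGlob.K828.LpPts
import Groth.Agent.TateGlob.K834.Main

/-!
# Vanishing of `H^i(A_K, G)`, `i > 2`
-/

set_option autoImplicit false
set_option backward.isDefEq.respectTransparency.types false

universe u

open CategoryTheory CategoryTheory.Limits AlgebraicGeometry Opposite
open K828 K828.BigCoh K963.BcCoh K963.AdLev K963.Asm K963.Trans K963.Mod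
open FunFld AdFn

namespace K963.AdVan

/-- Vanishing over the spectrum of the base ring. -/
theorem zero_id {P : Precoverage Scheme.{u}} {R : Type u} [CommRing R]
    (F : BigSite.Ab P (Spec (CommRingCat.of R))) (n : ℕ)
    (h : Subsingleton (BigSite.H P (Spec (CommRingCat.of R)) F n)) :
    ∀ x : (bigCoh P (Spec (CommRingCat.of R))).H F n (specOf (RingHom.id R)), x = 0 := by
  let e : specOf (RingHom.id R) ≅ Over.mk (𝟙 (Spec (CommRingCat.of R))) := Over.isoMk (Iso.refl _) (by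
    change 𝟙 _ ≫ 𝟙 _ = Spec.map (𝟙 (CommRingCat.of R))
    rw [Spec.map_id, Category.comp_id])
  generalize hH : bigCoh P (Spec (CommRingCat.of R)) = 𝓗
  have h1 : ∀ y : 𝓗.H F n (Over.mk (𝟙 _)), y = 0 := by
    subst hH
    intro y
    obtain ⟨z, rfl⟩ := (K827.Abs.absE F n).surjective y
    rw [h.elim z 0, map_zero]
  intro x
  have h2 : 𝓗.res e.hom (𝓗.res e.inv x) = x := by
    rw [← 𝓗.res_comp, e.hom_inv_id, 𝓗.res_id]
  rw [← h2, h1 (𝓗.res e.inv x), map_zero]

variable {k K : Type u} [Field k] [Field K] [Algebra k K]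

/-- Vanishing over `K_v`. -/
theorem zero_loc {S : Set (Place k K)} (𝒢 : Over (Spec (CommRingCat.of (SInt S)))) [GrpObj 𝒢] [IsCommMonObj 𝒢]
    (n : ℕ) (v : Place k K)
    (h : Subsingleton (BigSite.H Scheme.fppfPrecoverage (Spec (CommRingCat.of (Kv v)))
      (CGrpSh.pts Scheme.fppfPrecoverage (Red.bc (Spec.map (CommRingCat.ofHom (SInt.toKv S v))) 𝒢)) n)) :
    ∀ x : (bigCoh Scheme.fppfPrecoverage _).H (CGrpSh.pts Scheme.fppfPrecoverage 𝒢) n (specOf (SInt.toKv S v)),
      x = 0 :=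
  (zero_iff (SInt.toKv S v) (cmp _)
    (K809.PtsPull.ptsPull Scheme.fppfPrecoverage (Spec.map (CommRingCat.ofHom (SInt.toKv S v))) 𝒢) n
    (A := Kv v) (φA := SInt.toKv S v) (ψA := RingHom.id (Kv v)) rfl).2 (zero_id _ n h)

/-- Vanishing over the adele ring, over `O_S` and over `K`. -/
theorem zero_ad [HasFinitePoles k K] {S : Set (Place k K)}
    {F : BigSite.Ab Scheme.fppfPrecoverage (Spec (CommRingCat.of (SInt S)))}
    {F' : BigSite.Ab Scheme.fppfPrecoverage (Spec (CommRingCat.of K))}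
    (α : (BigSite.pullBig Scheme.fppfPrecoverage (Spec.map (CommRingCat.ofHom (SInt.toK S)))
      AddCommGrpCat.{u + 1}).obj F ≅ F') (n : ℕ)
    (h : ∀ x : (bigCoh Scheme.fppfPrecoverage _).H F n (specOf (SInt.toAd S)), x = 0) :
    ∀ x : (bigCoh Scheme.fppfPrecoverage _).H F' n (specOf (AdeleRing.diag (k := k) (K := K))), x = 0 :=
  (zero_iff (SInt.toK S) (cmp _) α n (A := AdeleRing k K) (φA := SInt.toAd S)
    (ψA := AdeleRing.diag (k := k) (K := K)) rfl).1 h

/-- `H^i(A_K, G) = 0`, `i > 2`. -/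
theorem main (Fq : Type u) [Field Fq] [Finite Fq] (K : Type u) [Field K] [Algebra (RatFunc Fq) K] [FunctionField Fq K]
    [Algebra Fq K] [IsScalarTower Fq (RatFunc Fq) K] [AdFn.HasFinitePoles Fq K]
    (G : Over (Spec (CommRingCat.of K))) [GrpObj G] [IsCommMonObj G] [LocallyOfFiniteType G.hom]
    [QuasiCompact G.hom] (i : ℕ) (hi : 2 < i) :
    Subsingleton (AdFn.HAd Scheme.fppfPrecoverage Fq (CGrpSh.pts Scheme.fppfPrecoverage G) i) := by
  obtain ⟨S, hS, hne, 𝒢, _, _, f1, f2, f3, f4, ⟨m⟩, hstr⟩ := K834.Main.exists_model Fq K G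
  have hN := K829.SIntNoeth.isNoetherianRing (K829.FunBase.isGen Fq K) S
  have hlfp : LocallyOfFinitePresentation 𝒢.hom := inferInstance
  have hgood := K834.Main.good S 𝒢 hstr
  obtain ⟨j, rfl⟩ : ∃ j, i = j + 2 := ⟨i - 2, by omega⟩
  have hz : PZero (bigCoh Scheme.fppfPrecoverage _) (CGrpSh.pts Scheme.fppfPrecoverage 𝒢) (j + 2)
    (Set.Subset.refl S) := hgood.van j
  have hO : OZero (bigCoh Scheme.fppfPrecoverage _) (CGrpSh.pts Scheme.fppfPrecoverage 𝒢) (j + 2) S :=
    fun T hT h _ => hz.mono h hT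
  have h1 := Asm.eq_zero_of_forall (𝓗 := bigCoh Scheme.fppfPrecoverage _) hS hS
    (K828.LpPts.lp_pts 𝒢 Scheme.fppfPrecoverage) hO
    (fun v => by
      have q1 : LocallyOfFiniteType (Red.bc (Spec.map (CommRingCat.ofHom (SInt.toKv S v))) 𝒢).hom :=
        inferInstanceAs (LocallyOfFiniteType (pullback.snd 𝒢.hom (Spec.map (CommRingCat.ofHom (SInt.toKv S v)))))
      have q2 : QuasiCompact (Red.bc (Spec.map (CommRingCat.ofHom (SInt.toKv S v))) 𝒢).hom :=
        inferInstanceAs (QuasiCompact (pullback.snd 𝒢.hom (Spec.map (CommRingCat.ofHom (SInt.toKv S v)))))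
      exact zero_loc 𝒢 (j + 2) v (KvVan.subsingleton_H v _ (j + 2) hi))
  have h2 := zero_ad m (j + 2) h1
  exact ⟨fun x y => sub_eq_zero.1 (h2 (x - y))⟩

end K963.AdVan
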