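import Groth.Agent.TateGlob.K963.AsmAbs
import Groth.Agent.TateGlob.K828.BigCoh

/-!
# Cohomology of the adele ring: the statements about `AdFn.locProdS`

* `injective_and_range`: restricted product;
* `injective_and_range_of_oZero`: direct sum;
* `subsingleton_HAdS`: vanishing.
-/

set_option autoImplicit false
set_option backward.isDefEq.respectTransparency.types false

universe u

open CategoryTheory CategoryTheory.Limits AlgebraicGeometry Opposite
open K828 K828.LPre K828.BigCoh K963.AdLev K963.Asm
open FunFld AdFn
open scoped RestrictedProduct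

namespace K963.AsmBig

variable {k K : Type u} [Field k] [Field K] [Algebra k K] {S : Set (Place k K)}
  {F : BigSite.Ab Scheme.fppfPrecoverage (Spec (CommRingCat.of (SInt S)))} {n : ℕ}

variable [HasFinitePoles k K] (hS : S.Finite) {T₀ : Set (Place k K)} (hT₀ : T₀.Finite) (hF : LP F.obj)

include hS hT₀ hF

/-- Injectivity of `H^n(A) → ∏ H^n(K_v)`, with image the restricted product. -/
theorem injective_and_range (h1 : OInj (bigCoh Scheme.fppfPrecoverage _) F n T₀)
    (h2 : IInj (bigCoh Scheme.fppfPrecoverage _) F n T₀) (h3 : OSurj (bigCoh Scheme.fppfPrecoverage _) F n T₀) :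
    Function.Injective (locProdS Scheme.fppfPrecoverage S F n) ∧
      Set.range (locProdS Scheme.fppfPrecoverage S F n) =
        Set.range (fun y : LocRP Scheme.fppfPrecoverage S F n =>
          (⇑y : (v : Place k K) → HLocS Scheme.fppfPrecoverage S F n v)) :=
  AsmAbs.injective_and_range (𝓗 := bigCoh Scheme.fppfPrecoverage _) hS hT₀ hF h1 h2 h3

/-- Injectivity, with image the direct sum, when the cohomology of `∏ O_v` vanishes. -/
theorem injective_and_range_of_oZero (h1 : OZero (bigCoh Scheme.fppfPrecoverage _) F n T₀) :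
    Function.Injective (locProdS Scheme.fppfPrecoverage S F n) ∧
      Set.range (locProdS Scheme.fppfPrecoverage S F n) = {x | ∀ᶠ v in Filter.cofinite, x v = 0} :=
  AsmAbs.injective_and_range_of_oZero (𝓗 := bigCoh Scheme.fppfPrecoverage _) hS hT₀ hF h1

/-- Vanishing. -/
theorem subsingleton_HAdS (h1 : OZero (bigCoh Scheme.fppfPrecoverage _) F n T₀)
    (h2 : ∀ v : Place k K, Subsingleton (HLocS Scheme.fppfPrecoverage S F n v)) :
    Subsingleton (HAdS Scheme.fppfPrecoverage S F n) :=
  AsmAbs.subsingleton_of_oZero (𝓗 := bigCoh Scheme.fppfPrecoverage _) hS hT₀ hF h1 h2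

end K963.AsmBig
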