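import Groth.Agent.TateGlob.K829.Yon
import Groth.Agent.TateGlob.K828.LPre
import Mathlib.CategoryTheory.Limits.Constructions.Over.Connected

/-!
# The dual sheaf of a commutative group scheme is limit preserving (helper963)

For `G` quasi-compact and quasi-separated over any base and `H` locally of finite presentation, the internal
Hom sheaf `𝓗om(G, H)` is limit preserving (`K828.LPre.LP`).
-/

set_option autoImplicit false

universe u

open CategoryTheory CategoryTheory.Limits AlgebraicGeometry Opposite MonoidalCategory CartesianMonoidalCategory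

namespace K963.DualLP

variable {S : Scheme.{u}}

section factor

variable {I : Type u} [SmallCategory I] [IsCofiltered I] {D : I ⥤ Over S} {c : Cone D}
  (hc : IsLimit ((Over.forget S).mapCone c)) (h1 : ∀ {i j : I} (f : i ⟶ j), IsAffineHom (D.map f).left)
  (h2 : ∀ i, CompactSpace (D.obj i).left) (h3 : ∀ i, QuasiSeparatedSpace (D.obj i).left)

include hc h1 h2 h3

theorem exists_factor (X : Over S) [LocallyOfFinitePresentation X.hom] (f : c.pt ⟶ X) :
    ∃ (i : I) (fi : D.obj i ⟶ X), c.π.app i ≫ fi = f := by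
  have h1' : ∀ {i j : I} (f : i ⟶ j), IsAffineHom ((D ⋙ Over.forget S).map f) := fun {i j} f => h1 f
  have h2' : ∀ i, CompactSpace ((D ⋙ Over.forget S).obj i) := h2
  have h3' : ∀ i, QuasiSeparatedSpace ((D ⋙ Over.forget S).obj i) := h3
  let t : D ⋙ Over.forget S ⟶ (Functor.const I).obj S :=
    { app := fun i => (D.obj i).hom
      naturality := fun i j f => by
        change (D.map f).left ≫ (D.obj j).hom = (D.obj i).hom ≫ 𝟙 _
        rw [Over.w, Category.comp_id] }
  obtain ⟨i, g, hg, hg'⟩ := Scheme.exists_π_app_comp_eq_of_locallyOfFinitePresentation (D ⋙ Over.forget S) t X.hom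
    ((Over.forget S).mapCone c) hc f.left (by
      ext i : 2
      change (c.π.app i).left ≫ (D.obj i).hom = f.left ≫ X.hom
      rw [Over.w, Over.w]
      rfl)
  exact ⟨i, Over.homMk g hg', Over.OverMorphism.ext hg⟩

theorem exists_comp_eq (X : Over S) [LocallyOfFiniteType X.hom] {i : I} (a b : D.obj i ⟶ X)
    (h : c.π.app i ≫ a = c.π.app i ≫ b) : ∃ (j : I) (φ : j ⟶ i), D.map φ ≫ a = D.map φ ≫ b := by
  have h1' : ∀ {i j : I} (f : i ⟶ j), IsAffineHom ((D ⋙ Over.forget S).map f) := fun {i j} f => h1 f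
  have h2' : ∀ i, CompactSpace ((D ⋙ Over.forget S).obj i) := h2
  have h3' : ∀ i, QuasiSeparatedSpace ((D ⋙ Over.forget S).obj i) := h3
  let t : D ⋙ Over.forget S ⟶ (Functor.const I).obj S :=
    { app := fun i => (D.obj i).hom
      naturality := fun i j f => by
        change (D.map f).left ≫ (D.obj j).hom = (D.obj i).hom ≫ 𝟙 _
        rw [Over.w, Category.comp_id] }
  obtain ⟨k, φ, hφ⟩ := Scheme.exists_hom_comp_eq_comp_of_locallyOfFiniteType (D ⋙ Over.forget S) t X.hom
    ((Over.forget S).mapCone c) hc (i := i) a.left b.left (Over.w a).symm (Over.w b).symm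
    (congrArg CommaMorphism.left h)
  exact ⟨k, φ, Over.OverMorphism.ext hφ⟩

end factor

section tensor

variable {I : Type u} [SmallCategory I] [IsCofiltered I] {D : I ⥤ Over S} {c : Cone D}

/-- A cofiltered limit cone in `Over S` stays one after `G ⊗ -`. -/
theorem nonempty_isLimit_tensor (hc : IsLimit ((Over.forget S).mapCone c)) (G : Over S) :
    Nonempty (IsLimit ((tensorLeft G).mapCone c)) := by
  have hcon : IsConnected I := IsCofiltered.isConnected I
  have hc' : IsLimit c := isLimitOfReflects (Over.forget S) hc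
  have key : ∀ (s : Cone (D ⋙ tensorLeft G)) (i j : I),
      s.π.app i ≫ fst G (D.obj i) = s.π.app j ≫ fst G (D.obj j) := by
    intro s i j
    obtain ⟨k, α, β, -⟩ := IsCofilteredOrEmpty.cone_objs i j
    have e1 : s.π.app k ≫ G ◁ D.map α = s.π.app i := s.w α
    have e2 : s.π.app k ≫ G ◁ D.map β = s.π.app j := s.w β
    rw [← e1, ← e2, Category.assoc, Category.assoc, whiskerLeft_fst, whiskerLeft_fst]
  let i0 : I := Classical.arbitrary I
  let sn : ∀ s : Cone (D ⋙ tensorLeft G), Cone D := fun s =>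
    { pt := s.pt
      π :=
        { app := fun i => s.π.app i ≫ snd G (D.obj i)
          naturality := fun i j f => by
            have e : s.π.app i ≫ G ◁ D.map f = s.π.app j := s.w f
            change 𝟙 _ ≫ s.π.app j ≫ snd G (D.obj j) = (s.π.app i ≫ snd G (D.obj i)) ≫ D.map f
            rw [Category.id_comp, ← e, Category.assoc, Category.assoc, whiskerLeft_snd] } }
  refine ⟨{ lift := fun s => lift (s.π.app i0 ≫ fst G (D.obj i0)) (hc'.lift (sn s)), fac := ?_, uniq := ?_ }⟩
  · intro s j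
    change lift (s.π.app i0 ≫ fst G (D.obj i0)) (hc'.lift (sn s)) ≫ G ◁ c.π.app j = s.π.app j
    apply CartesianMonoidalCategory.hom_ext
    · rw [Category.assoc, whiskerLeft_fst, lift_fst, key s i0 j]
    · rw [Category.assoc, whiskerLeft_snd, lift_snd_assoc, hc'.fac]
  · intro s m hm
    have hm' : ∀ j, m ≫ G ◁ c.π.app j = s.π.app j := hm
    apply CartesianMonoidalCategory.hom_ext
    · rw [lift_fst, ← hm' i0, Category.assoc, whiskerLeft_fst]
    · rw [lift_snd]
      apply hc'.hom_ext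
      intro j
      rw [hc'.fac, Category.assoc]
      change _ = s.π.app j ≫ snd G (D.obj j)
      rw [← hm' j, Category.assoc, whiskerLeft_snd]

end tensor

/-! ## Multiplicative morphisms `G ⊗ T ⟶ H` and sections of `𝓗om(G, H)` -/

section mult

open MonObj

variable {G H : Over S} [GrpObj G] [IsCommMonObj G] [GrpObj H] [IsCommMonObj H]

/-- Left hand side of the multiplicativity identity. -/
noncomputable def lhs {T : Over S} (u : G ⊗ T ⟶ H) : G ⊗ (G ⊗ T) ⟶ H :=
  lift (fst G (G ⊗ T) * (snd G (G ⊗ T) ≫ fst G T)) (snd G (G ⊗ T) ≫ snd G T) ≫ u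

/-- Right hand side of the multiplicativity identity. -/
noncomputable def rhs {T : Over S} (u : G ⊗ T ⟶ H) : G ⊗ (G ⊗ T) ⟶ H :=
  (lift (fst G (G ⊗ T)) (snd G (G ⊗ T) ≫ snd G T) ≫ u) * (snd G (G ⊗ T) ≫ u)

theorem comp_lhs {T V : Over S} (u : G ⊗ T ⟶ H) (x y : V ⟶ G) (t : V ⟶ T) :
    lift x (lift y t) ≫ lhs u = lift (x * y) t ≫ u := by
  rw [lhs, ← Category.assoc]
  congr 1
  rw [comp_lift, MonObj.comp_mul]
  simp

theorem comp_rhs {T V : Over S} (u : G ⊗ T ⟶ H) (x y : V ⟶ G) (t : V ⟶ T) :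
    lift x (lift y t) ≫ rhs u = (lift x t ≫ u) * (lift y t ≫ u) := by
  rw [rhs, MonObj.comp_mul, ← Category.assoc, ← Category.assoc, comp_lift]
  simp

theorem whisker_eq {T T' : Over S} (g : T' ⟶ T) :
    (G ◁ (G ◁ g)) = lift (fst G (G ⊗ T')) (lift (snd G (G ⊗ T') ≫ fst G T') (snd G (G ⊗ T') ≫ snd G T' ≫ g)) := by
  apply CartesianMonoidalCategory.hom_ext
  · simp
  · apply CartesianMonoidalCategory.hom_ext <;> simp

theorem lift_eq {T T' V : Over S} (x : V ⟶ G) (t : V ⟶ T') (g : T' ⟶ T) (u : G ⊗ T ⟶ H) :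
    lift x (t ≫ g) ≫ u = lift x t ≫ (G ◁ g ≫ u) := by
  rw [← Category.assoc]
  refine congrArg (· ≫ u) ?_
  apply CartesianMonoidalCategory.hom_ext <;> simp

theorem snd_eq {T : Over S} (u : G ⊗ T ⟶ H) :
    lift (snd G (G ⊗ T) ≫ fst G T) (snd G (G ⊗ T) ≫ snd G T) ≫ u = snd G (G ⊗ T) ≫ u := by
  refine congrArg (· ≫ u) ?_
  apply CartesianMonoidalCategory.hom_ext <;> simp

theorem whisker_lhs {T T' : Over S} (u : G ⊗ T ⟶ H) (g : T' ⟶ T) :
    (G ◁ (G ◁ g)) ≫ lhs u = lhs (G ◁ g ≫ u) := by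
  rw [whisker_eq, comp_lhs, ← Category.assoc, lift_eq]
  rfl

theorem whisker_rhs {T T' : Over S} (u : G ⊗ T ⟶ H) (g : T' ⟶ T) :
    (G ◁ (G ◁ g)) ≫ rhs u = rhs (G ◁ g ≫ u) := by
  rw [whisker_eq, comp_rhs, ← Category.assoc, lift_eq (fst G (G ⊗ T')) (snd G (G ⊗ T') ≫ snd G T') g u,
    lift_eq (snd G (G ⊗ T') ≫ fst G T') (snd G (G ⊗ T') ≫ snd G T') g u, snd_eq]
  rfl

theorem mul_apply {T V : Over S} {u : G ⊗ T ⟶ H} (hu : lhs u = rhs u) (x y : V ⟶ G) (t : V ⟶ T) :
    lift (x * y) t ≫ u = (lift x t ≫ u) * (lift y t ≫ u) := by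
  rw [← comp_lhs, hu, comp_rhs]

theorem one_apply {T V : Over S} {u : G ⊗ T ⟶ H} (hu : lhs u = rhs u) (t : V ⟶ T) :
    lift (1 : V ⟶ G) t ≫ u = 1 := by
  have h := mul_apply hu (1 : V ⟶ G) 1 t
  rw [_root_.mul_one] at h
  exact (left_eq_mul.1 h)

variable (K : Precoverage Scheme.{u}) [(QuotSh.J K S).Subcanonical]

/-- The section of `𝓗om(G, H)` defined by a multiplicative morphism. -/
noncomputable def toHom {T : Over S} (u : G ⊗ T ⟶ H) (hu : lhs u = rhs u) :
    (CGrpSh.pts K G).over T ⟶ (CGrpSh.pts K H).over T :=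
  ⟨{ app := fun U => AddCommGrpCat.ofHom
      { toFun := fun x => ULift.up (Additive.ofMul (lift x.down.toMul (unop U).hom ≫ u))
        map_zero' := by
          apply ULift.ext
          exact congrArg Additive.ofMul (one_apply hu (unop U).hom)
        map_add' := fun x y => by
          apply ULift.ext
          exact congrArg Additive.ofMul (mul_apply hu x.down.toMul y.down.toMul (unop U).hom) }
     naturality := fun U U' f => AddCommGrpCat.ext fun x => ULift.ext _ _ (by
      have h : ∀ y : (unop U).left ⟶ G, lift (f.unop.left ≫ y) (unop U').hom ≫ u =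
          f.unop.left ≫ (lift y (unop U).hom ≫ u) := fun y => by
        rw [← Category.assoc, comp_lift, Over.w]
      exact congrArg Additive.ofMul (h x.down.toMul)) }⟩

theorem val_toHom {T : Over S} (u : G ⊗ T ⟶ H) (hu : lhs u = rhs u) :
    K829.Yon.val K (toHom K u hu) = K829.Yon.pt K u := by
  change K829.Yon.pt K (lift (fst G T) (snd G T) ≫ u) = _
  rw [lift_fst_snd, Category.id_comp]

/-- The morphism `G ⊗ T ⟶ H` attached to a section. -/
noncomputable def ofHom {T : Over S} (φ : (CGrpSh.pts K G).over T ⟶ (CGrpSh.pts K H).over T) : G ⊗ T ⟶ H :=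
  Additive.toMul (K829.Yon.val K φ).down

theorem pt_ofHom {T : Over S} (φ : (CGrpSh.pts K G).over T ⟶ (CGrpSh.pts K H).over T) :
    K829.Yon.pt K (ofHom K φ) = K829.Yon.val K φ := rfl

theorem pt_injective {T : Over S} {x y : T ⟶ H} (h : K829.Yon.pt K x = K829.Yon.pt K y) : x = y :=
  congrArg (fun z : (CGrpSh.pts K H).obj.obj (op T) => Additive.toMul z.down) h

theorem ofHom_mult {T : Over S} (φ : (CGrpSh.pts K G).over T ⟶ (CGrpSh.pts K H).over T) :
    lhs (ofHom K φ) = rhs (ofHom K φ) := by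
  let V : Over S := G ⊗ (G ⊗ T)
  let t : V ⟶ T := snd G (G ⊗ T) ≫ snd G T
  let x : V ⟶ G := fst G (G ⊗ T)
  let y : V ⟶ G := snd G (G ⊗ T) ≫ fst G T
  have h1 : φ.hom.app (op (Over.mk t)) (K829.Yon.pt K (x * y)) =
      φ.hom.app (op (Over.mk t)) (K829.Yon.pt K x) + φ.hom.app (op (Over.mk t)) (K829.Yon.pt K y) :=
    map_add (φ.hom.app (op (Over.mk t))).hom (K829.Yon.pt K x) (K829.Yon.pt K y)
  rw [K829.Yon.app_eq K φ (Over.mk t) (x * y), K829.Yon.app_eq K φ (Over.mk t) x,
    K829.Yon.app_eq K φ (Over.mk t) y, ← pt_ofHom, K829.Yon.map_pt, K829.Yon.map_pt, K829.Yon.map_pt] at h1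
  have h2 : lift (x * y) t ≫ ofHom K φ = (lift x t ≫ ofHom K φ) * (lift y t ≫ ofHom K φ) := pt_injective K h1
  have h3 : lift x (lift y t) = 𝟙 V := by
    ext1
    · simp [x]
    · ext1 <;> simp [y, t]
  rw [← comp_lhs, ← comp_rhs, h3, Category.id_comp, Category.id_comp] at h2
  exact h2

end mult

/-! ## The theorem -/

section main

open MonObj

variable {G H : Over S} [GrpObj G] [IsCommMonObj G] [GrpObj H] [IsCommMonObj H]

theorem isPullback_whisker {T T' : Over S} (g : T' ⟶ T) :
    IsPullback (G ◁ g).left (snd G T').left (snd G T).left g.left := by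
  have h : IsPullback (G ◁ g) (snd G T') (snd G T) g := by
    refine ⟨⟨by simp⟩, ⟨PullbackCone.IsLimit.mk _ (fun s => lift (s.fst ≫ fst G T) s.snd) ?_ ?_ ?_⟩⟩
    · intro s
      apply CartesianMonoidalCategory.hom_ext
      · simp
      · simpa using s.condition.symm
    · intro s
      simp
    · intro s m h1 h2
      apply CartesianMonoidalCategory.hom_ext
      · rw [lift_fst, ← h1, Category.assoc, whiskerLeft_fst]
      · rw [lift_snd, ← h2]
  exact h.map (Over.forget S)

theorem isAffineHom_whisker {T T' : Over S} (g : T' ⟶ T) (hg : IsAffineHom g.left) : IsAffineHom (G ◁ g).left :=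
  MorphismProperty.of_isPullback (P := @IsAffineHom) (isPullback_whisker g).flip hg

theorem isPullback_snd (G T : Over S) : IsPullback (fst G T).left (snd G T).left G.hom T.hom :=
  IsPullback.of_hasPullback G.hom T.hom

theorem compactSpace_tensor (G T : Over S) [QuasiCompact G.hom] (hT : CompactSpace T.left) :
    CompactSpace (G ⊗ T).left := by
  have h : QuasiCompact (snd G T).left :=
    MorphismProperty.of_isPullback (P := @QuasiCompact) (isPullback_snd G T) ‹_›
  exact QuasiCompact.compactSpace_of_compactSpace (snd G T).left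

theorem quasiSeparatedSpace_tensor (G T : Over S) [QuasiSeparated G.hom] (hT : QuasiSeparatedSpace T.left) :
    QuasiSeparatedSpace (G ⊗ T).left := by
  have h : QuasiSeparated (snd G T).left :=
    MorphismProperty.of_isPullback (P := @QuasiSeparated) (isPullback_snd G T) ‹_›
  exact quasiSeparatedSpace_of_quasiSeparated (snd G T).left

/-- The tensor system. -/
theorem nonempty_isLimit_tensor_forget {I : Type u} [SmallCategory I] [IsCofiltered I] {D : I ⥤ Over S} {c : Cone D}
    (hc : IsLimit ((Over.forget S).mapCone c)) (G : Over S) :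
    Nonempty (IsLimit ((Over.forget S).mapCone ((tensorLeft G).mapCone c))) := by
  have hcon : IsConnected I := IsCofiltered.isConnected I
  obtain ⟨h⟩ := nonempty_isLimit_tensor hc G
  have : PreservesLimitsOfShape I (Over.forget S) :=
    inferInstanceAs (PreservesLimitsOfShape I (CostructuredArrow.proj (𝟭 Scheme.{u}) S))
  exact ⟨isLimitOfPreserves (Over.forget S) h⟩

variable (K : Precoverage Scheme.{u}) [(QuotSh.J K S).Subcanonical]

/-- `𝓗om(G, H)` is limit preserving for `G` quasi-compact and quasi-separated and `H` locally of finite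
presentation. -/
theorem lp_hom [QuasiCompact G.hom] [QuasiSeparated G.hom] [LocallyOfFinitePresentation H.hom] :
    K828.LPre.LP (HomSh.homSh (QuotSh.J K S) (CGrpSh.pts K G) (CGrpSh.pts K H)).obj := by
  apply K828.LPre.lp_of
  intro I _ _ D c hc hD hT
  have haff : ∀ {i j : I} (f : i ⟶ j), IsAffineHom (D.map f).left := fun {i j} f => by
    have := hD i
    have := hD j
    infer_instance
  obtain ⟨hc1⟩ := nonempty_isLimit_tensor_forget hc G
  have hA1 : ∀ {i j : I} (f : i ⟶ j), IsAffineHom ((D ⋙ tensorLeft G).map f).left := fun {i j} f =>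
    isAffineHom_whisker _ (haff f)
  have hB1 : ∀ i, CompactSpace ((D ⋙ tensorLeft G).obj i).left := fun i => by
    have := hD i
    exact compactSpace_tensor G (D.obj i) inferInstance
  have hC1 : ∀ i, QuasiSeparatedSpace ((D ⋙ tensorLeft G).obj i).left := fun i => by
    have := hD i
    exact quasiSeparatedSpace_tensor G (D.obj i) inferInstance
  obtain ⟨hc2⟩ := nonempty_isLimit_tensor_forget hc1 G
  have hA2 : ∀ {i j : I} (f : i ⟶ j), IsAffineHom (((D ⋙ tensorLeft G) ⋙ tensorLeft G).map f).left := fun {i j} f =>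
    isAffineHom_whisker _ (hA1 f)
  have hB2 : ∀ i, CompactSpace (((D ⋙ tensorLeft G) ⋙ tensorLeft G).obj i).left := fun i =>
    compactSpace_tensor G _ (hB1 i)
  have hC2 : ∀ i, QuasiSeparatedSpace (((D ⋙ tensorLeft G) ⋙ tensorLeft G).obj i).left := fun i =>
    quasiSeparatedSpace_tensor G _ (hC1 i)
  constructor
  · intro φ
    change (CGrpSh.pts K G).over c.pt ⟶ (CGrpSh.pts K H).over c.pt at φ
    obtain ⟨i, ui, hui⟩ := exists_factor hc1 hA1 hB1 hC1 H (ofHom K φ)
    have hui' : G ◁ c.π.app i ≫ ui = ofHom K φ := hui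
    obtain ⟨j, ψ, hψ⟩ := exists_comp_eq hc2 hA2 hB2 hC2 H (i := i) (lhs ui) (rhs ui) (by
      change (G ◁ (G ◁ c.π.app i)) ≫ lhs ui = (G ◁ (G ◁ c.π.app i)) ≫ rhs ui
      rw [whisker_lhs, whisker_rhs, hui', ofHom_mult])
    have hψ' : (G ◁ (G ◁ D.map ψ)) ≫ lhs ui = (G ◁ (G ◁ D.map ψ)) ≫ rhs ui := hψ
    rw [whisker_lhs, whisker_rhs] at hψ'
    refine ⟨j, toHom K (G ◁ D.map ψ ≫ ui) hψ', ?_⟩
    apply K829.Yon.val_injective K
    have h1 := K829.Yon.val_map K (M := CGrpSh.pts K H) (c.π.app j) (toHom K (G ◁ D.map ψ ≫ ui) hψ')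
    refine h1.trans ?_
    rw [val_toHom, K829.Yon.map_pt, ← pt_ofHom]
    congr 1
    rw [← hui', ← Category.assoc, ← MonoidalCategory.whiskerLeft_comp, c.w]
  · intro i φ hφ
    change (CGrpSh.pts K G).over (D.obj i) ⟶ (CGrpSh.pts K H).over (D.obj i) at φ
    have h1 := K829.Yon.val_map K (M := CGrpSh.pts K H) (c.π.app i) φ
    have h2 : K829.Yon.val K ((HomSh.homSh (QuotSh.J K S) (CGrpSh.pts K G) (CGrpSh.pts K H)).obj.map
        (c.π.app i).op φ) = 0 := (congrArg (K829.Yon.val K) hφ).trans (K829.Yon.val_zero K)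
    rw [h2, ← pt_ofHom, K829.Yon.map_pt] at h1
    have h3 : (G ◁ c.π.app i) ≫ ofHom K φ = (G ◁ c.π.app i) ≫ (1 : G ⊗ D.obj i ⟶ H) := by
      apply pt_injective K
      rw [← h1, MonObj.comp_one]
      rfl
    obtain ⟨j, ψ, hψ⟩ := exists_comp_eq hc1 hA1 hB1 hC1 H (i := i) (ofHom K φ) 1 h3
    have hψ' : (G ◁ D.map ψ) ≫ ofHom K φ = (G ◁ D.map ψ) ≫ 1 := hψ
    refine ⟨j, ψ, ?_⟩
    apply K829.Yon.val_injective K
    have h4 := K829.Yon.val_map K (M := CGrpSh.pts K H) (D.map ψ) φ
    refine h4.trans ?_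
    rw [← pt_ofHom, K829.Yon.map_pt, hψ', MonObj.comp_one]
    rfl

theorem lfp_Gm (S : Scheme.{u}) : LocallyOfFinitePresentation (Red.Gm S).hom := by
  have h1 : LocallyOfFinitePresentation (Red.diag (ULift.{u} ℤ) ℤ).hom := by
    change LocallyOfFinitePresentation (Spec.map (CommRingCat.ofHom (algebraMap (ULift.{u} ℤ)
      (MonoidAlgebra (ULift.{u} ℤ) (Multiplicative ℤ)))))
    rw [HasRingHomProperty.Spec_iff (P := @LocallyOfFinitePresentation)]
    change (algebraMap (ULift.{u} ℤ) (MonoidAlgebra (ULift.{u} ℤ) (Multiplicative ℤ))).FinitePresentation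
    rw [RingHom.finitePresentation_algebraMap]
    have : AddGroup.FG ℤ := by
      rw [← Module.Finite.iff_addGroup_fg]; infer_instance
    have h5 : Algebra.FiniteType (ULift.{u} ℤ) (MonoidAlgebra (ULift.{u} ℤ) (Multiplicative ℤ)) := inferInstance
    have h6 : IsNoetherianRing (ULift.{u} ℤ) := isNoetherianRing_of_ringEquiv ℤ ULift.ringEquiv.symm
    exact Algebra.FinitePresentation.of_finiteType.mp h5
  exact MorphismProperty.of_isPullback (P := @LocallyOfFinitePresentation)
    (IsPullback.of_hasPullback (Red.diag (ULift.{u} ℤ) ℤ).hom (specULiftZIsTerminal.from S)) h1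

/-- The dual sheaf of a quasi-compact and quasi-separated commutative group scheme is limit preserving. -/
theorem lp_dual [QuasiCompact G.hom] [QuasiSeparated G.hom] :
    K828.LPre.LP (CGrpSh2.dualSh K (CGrpSh.pts K G)).obj := by
  have := lfp_Gm S
  exact lp_hom K

end main

end K963.DualLP
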