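import Groth.Agent.TateGlob.K963.Mod
import Groth.Agent.TateGlob.K963.AsmBig
import Groth.Agent.TateGlob.K963.DualLP
import Groth.Agent.S14552

/-!
# `H^1(A_K, 𝒢^)` for an almost torus: assembly from the decomposition of `H^1(∏_{v ∉ S'} O_v, 𝒢^)`
-/

set_option autoImplicit false
set_option backward.isDefEq.respectTransparency.types false

universe u

open CategoryTheory CategoryTheory.Limits AlgebraicGeometry Opposite
open K828 K828.BigCoh K963.BcCoh K963.AdLev K963.Asm K963.Trans K963.Mod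
open FunFld AdFn

namespace K963.DualMain

variable {k K : Type u} [Field k] [Field K] [Algebra k K]

/-- The decomposition for one sheaf and one `S'`, as in S14571. -/
def Dec {S : Set (Place k K)} (F : BigSite.Ab Scheme.fppfPrecoverage (Spec (CommRingCat.of (SInt S)))) (n : ℕ)
    (S' : Set (Place k K)) (hSS : S ⊆ S') : Prop :=
  Function.Bijective (fun (α : BigSite.HU Scheme.fppfPrecoverage F n
      (AdFn.specOf (RingHom.pi fun w : {w : FunFld.Place k K // w ∉ S'} => AdFn.SInt.toOv S (fun hw => w.2 (hSS hw)))))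
    (v : {v : FunFld.Place k K // v ∉ S'}) =>
    HRes.resHU Scheme.fppfPrecoverage F n
      (AdFn.specOfHom (RingHom.pi fun w : {w : FunFld.Place k K // w ∉ S'} => AdFn.SInt.toOv S (fun hw => w.2 (hSS hw)))
        (AdFn.SInt.toOv S (fun hw => v.2 (hSS hw))) (AdFn.OHat.proj S' v.2) (RingHom.ext fun _ => rfl)) α)

theorem pInj_of_dec {S : Set (Place k K)} {F : BigSite.Ab Scheme.fppfPrecoverage (Spec (CommRingCat.of (SInt S)))}
    {n : ℕ} {S' : Set (Place k K)} {hSS : S ⊆ S'} (h : Dec F n S' hSS) : PInj (bigCoh _ _) F n hSS := by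
  intro x hx
  refine h.1 (a₁ := x) (a₂ := 0) (funext fun v => ?_)
  exact (hx v.1 v.2).trans (AddMonoidHom.map_zero _).symm

theorem pSurj_of_dec {S : Set (Place k K)} {F : BigSite.Ab Scheme.fppfPrecoverage (Spec (CommRingCat.of (SInt S)))}
    {n : ℕ} {S' : Set (Place k K)} {hSS : S ⊆ S'} (h : Dec F n S' hSS) : PSurj (bigCoh _ _) F n hSS := by
  intro y
  obtain ⟨x, hx⟩ := h.2 (fun v => y v.1 v.2)
  exact ⟨x, fun v hv => congrFun hx ⟨v, hv⟩⟩

/-- The theorem for one sheaf `F` on `Spec O_S` and a sheaf `F₁` on `Spec O_{S₁}` which agree over `O_{T₁}`, the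
decomposition being known for `F₁` and all large finite `S'`. -/
theorem injective_and_range [HasFinitePoles k K] {S S₁ T₁ : Set (Place k K)} (hS : S.Finite) (hT₁ : T₁.Finite)
    (h₁ : S ⊆ T₁) (h₂ : S₁ ⊆ T₁) {F : BigSite.Ab Scheme.fppfPrecoverage (Spec (CommRingCat.of (SInt S)))}
    (hF : K828.LPre.LP F.obj) {F₁ : BigSite.Ab Scheme.fppfPrecoverage (Spec (CommRingCat.of (SInt S₁)))}
    (β : (BigSite.pullBig Scheme.fppfPrecoverage (Spec.map (CommRingCat.ofHom (inc h₁)))
        AddCommGrpCat.{u + 1}).obj F ≅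
      (BigSite.pullBig Scheme.fppfPrecoverage (Spec.map (CommRingCat.ofHom (inc h₂))) AddCommGrpCat.{u + 1}).obj F₁)
    (n : ℕ) (hdec : ∀ (S' : Set (Place k K)), S'.Finite → ∀ hSS : S₁ ⊆ S', Dec F₁ n S' hSS)
    (hint : ∀ᶠ v in Filter.cofinite, ∀ hv : v ∉ S, Function.Injective (intRes Scheme.fppfPrecoverage S F n hv)) :
    Function.Injective (locProdS Scheme.fppfPrecoverage S F n) ∧
      Set.range (locProdS Scheme.fppfPrecoverage S F n) =
        Set.range (fun y : LocRP Scheme.fppfPrecoverage S F n =>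
          (⇑y : (v : Place k K) → HLocS Scheme.fppfPrecoverage S F n v)) := by
  have hfin : {v | ¬ ∀ hv : v ∉ S, Function.Injective (intRes Scheme.fppfPrecoverage S F n hv)}.Finite := hint
  refine AsmBig.injective_and_range hS (T₀ := T₁ ∪ {v | ¬ ∀ hv : v ∉ S, Function.Injective
    (intRes Scheme.fppfPrecoverage S F n hv)}) (hT₁.union hfin) hF ?_ ?_ ?_
  · intro T hT h hT₀
    have h3 : T₁ ⊆ T := Set.subset_union_left.trans hT₀
    exact (pInj_iff_of_iso h₁ h₂ β n h3).2 (pInj_of_dec (hdec T hT (h₂.trans h3)))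
  · intro v hv hvT x hx
    have h4 : Function.Injective (intRes Scheme.fppfPrecoverage S F n hv) := by
      by_contra hcon
      exact hvT (Or.inr fun h => hcon (h hv))
    exact h4 (hx.trans (AddMonoidHom.map_zero _).symm)
  · intro T hT h hT₀
    have h3 : T₁ ⊆ T := Set.subset_union_left.trans hT₀
    exact (pSurj_iff_of_iso h₁ h₂ β n h3).2 (pSurj_of_dec (hdec T hT (h₂.trans h3)))

end K963.DualMain
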