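import Groth.Agent.TateGlob.K828.Limit
import Groth.Agent.TateGlob.K828.DisjVan
import Groth.Agent.TateGlob.K828.GalSch
import Groth.Prelude.Def_AdFn
import Mathlib.Algebra.Category.Ring.FilteredColimits
import Mathlib.CategoryTheory.Limits.Types.Filtered

/-!
# Cohomology of a directed union of subrings, and of the adele ring

* `exists_level`, `exists_level_eq_zero`: `R → A`, `A` the directed union of subrings `B i` through which `R → A` factors;
  a class of `H^n(A, F)`, `F` limit preserving, comes from some `B i`, and a class of `H^n(B i, F)` dying in `A` dies in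
  some `B j`.
* `AT T`: the adeles integral outside `T`; `exists_AT`, `exists_AT_eq_zero`.
* `isDisj_AT`: `Spec AT T` is the disjoint union of the `Spec K_v`, `v ∈ T`, and of `Spec ∏_{v ∉ T} O_v`, `T` finite.
-/

set_option autoImplicit false

universe u

open CategoryTheory CategoryTheory.Limits AlgebraicGeometry Opposite
open K828 K828.LPre K828.Cech K828.Cartan

namespace K963.AdLev

/-! ## Directed unions of subrings -/

section Union

variable {R A : Type u} [CommRing R] [CommRing A] (φ : R →+* A) {ι : Type u} [Preorder ι]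
  (B : ι → Subring A) (hB : Monotone B) (hφ : ∀ i r, φ r ∈ B i)

/-- The diagram of the subrings. -/
noncomputable def ringD : ι ⥤ CommRingCat.{u} where
  obj i := CommRingCat.of (B i)
  map {i j} f := CommRingCat.ofHom (Subring.inclusion (hB (leOfHom f)))
  map_id i := by ext x; rfl
  map_comp f g := by ext x; rfl

/-- The cocone with vertex the whole ring. -/
noncomputable def ringC : Cocone (ringD B hB) where
  pt := CommRingCat.of A
  ι := { app := fun i => CommRingCat.ofHom (B i).subtype
         naturality := fun i j f => by ext x; rfl }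

/-- A directed union is a colimit. -/
noncomputable def isColimitRingC [IsDirectedOrder ι] [Nonempty ι] (hA : ∀ a, ∃ i, a ∈ B i) :
    IsColimit (ringC B hB) := by
  haveI : ReflectsColimit (ringD B hB) (forget CommRingCat.{u}) :=
    reflectsColimit_of_reflectsIsomorphisms (ringD B hB) (forget CommRingCat.{u})
  refine isColimitOfReflects (forget CommRingCat.{u}) ?_
  refine Types.FilteredColimit.isColimitOf _ _ ?_ ?_
  · intro x
    obtain ⟨i, hi⟩ := hA x
    exact ⟨i, ⟨x, hi⟩, rfl⟩
  · intro i j xi xj h
    obtain ⟨k, hik, hjk⟩ := exists_ge_ge i j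
    exact ⟨k, homOfLE hik, homOfLE hjk, Subtype.ext h⟩

/-- The structure map of the subring. -/
def str (i : ι) : R →+* B i := φ.codRestrict (B i) (hφ i)

/-- The diagram of the spectra. -/
noncomputable def D : ιᵒᵖ ⥤ Over (Spec (CommRingCat.of R)) where
  obj i := AdFn.specOf (str φ B hφ i.unop)
  map {i j} f := AdFn.specOfHom (str φ B hφ j.unop) (str φ B hφ i.unop) (Subring.inclusion (hB (leOfHom f.unop)))
    (RingHom.ext fun _ => rfl)
  map_id i := by
    ext1
    exact (Spec.map_id _)
  map_comp {i j k} f g := by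
    ext1
    exact (Spec.map_comp (CommRingCat.ofHom (Subring.inclusion (hB (leOfHom g.unop))))
      (CommRingCat.ofHom (Subring.inclusion (hB (leOfHom f.unop)))))

/-- The cone with vertex the spectrum of the whole ring. -/
noncomputable def c : Cone (D φ B hB hφ) where
  pt := AdFn.specOf φ
  π := { app := fun i => AdFn.specOfHom (str φ B hφ i.unop) φ (B i.unop).subtype (RingHom.ext fun _ => rfl)
         naturality := fun i j f => by
          ext1
          refine (Category.id_comp _).trans ?_
          exact (Spec.map_comp (CommRingCat.ofHom (Subring.inclusion (hB (leOfHom f.unop))))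
            (CommRingCat.ofHom (B i.unop).subtype)) }

/-- It is a limit. -/
noncomputable def isLimit [IsDirectedOrder ι] [Nonempty ι] (hA : ∀ a, ∃ i, a ∈ B i) :
    IsLimit ((Over.forget (Spec (CommRingCat.of R))).mapCone (c φ B hB hφ)) :=
  isLimitOfPreserves Scheme.Spec (isColimitRingC B hB hA).op

variable (𝓗 : CohT Scheme.fppfPrecoverage (Spec (CommRingCat.of R)))

include hB in
/-- A class on the spectrum of a directed union comes from a term. -/
theorem exists_level [IsDirectedOrder ι] [Nonempty ι] (hA : ∀ a, ∃ i, a ∈ B i) {n : ℕ}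
    {F : BigSite.Ab Scheme.fppfPrecoverage (Spec (CommRingCat.of R))} (hF : LP F.obj)
    (x : 𝓗.H F n (AdFn.specOf φ)) :
    ∃ (i : ι) (y : 𝓗.H F n (AdFn.specOf (str φ B hφ i))),
      𝓗.res (AdFn.specOfHom (str φ B hφ i) φ (B i).subtype (RingHom.ext fun _ => rfl)) y = x := by
  obtain ⟨i, y, hy⟩ := Limit.exists_res 𝓗 (isLimit φ B hB hφ hA)
    (fun i => inferInstanceAs (IsAffine (Spec (CommRingCat.of (B i.unop)))))
    (inferInstanceAs (IsAffine (Spec (CommRingCat.of A)))) hF x
  exact ⟨i.unop, y, hy⟩

/-- A class of a term dying on the directed union dies on a later term. -/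
theorem exists_level_eq_zero [IsDirectedOrder ι] [Nonempty ι] (hA : ∀ a, ∃ i, a ∈ B i) {n : ℕ}
    {F : BigSite.Ab Scheme.fppfPrecoverage (Spec (CommRingCat.of R))} (hF : LP F.obj) {i : ι}
    (x : 𝓗.H F n (AdFn.specOf (str φ B hφ i)))
    (hx : 𝓗.res (AdFn.specOfHom (str φ B hφ i) φ (B i).subtype (RingHom.ext fun _ => rfl)) x = 0) :
    ∃ (j : ι) (h : i ≤ j),
      𝓗.res (AdFn.specOfHom (str φ B hφ i) (str φ B hφ j) (Subring.inclusion (hB h)) (RingHom.ext fun _ => rfl)) x = 0 := by
  obtain ⟨j, f, hf⟩ := Limit.exists_res_eq_zero 𝓗 (isLimit φ B hB hφ hA)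
    (fun i => inferInstanceAs (IsAffine (Spec (CommRingCat.of (B i.unop)))))
    (inferInstanceAs (IsAffine (Spec (CommRingCat.of A)))) hF (i := op i) x hx
  exact ⟨j.unop, leOfHom f.unop, hf⟩

end Union

/-! ## Composites -/

theorem specOfHom_comp {R A B C : Type u} [CommRing R] [CommRing A] [CommRing B] [CommRing C] (φA : R →+* A)
    (φB : R →+* B) (φC : R →+* C) (f : A →+* B) (g : B →+* C) (hf : f.comp φA = φB) (hg : g.comp φB = φC)
    (hgf : (g.comp f).comp φA = φC) :
    AdFn.specOfHom φB φC g hg ≫ AdFn.specOfHom φA φB f hf = AdFn.specOfHom φA φC (g.comp f) hgf := by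
  ext1
  exact (Spec.map_comp (CommRingCat.ofHom f) (CommRingCat.ofHom g)).symm

theorem res_res {R A B C : Type u} [CommRing R] [CommRing A] [CommRing B] [CommRing C] {φA : R →+* A}
    {φB : R →+* B} {φC : R →+* C} {K : Precoverage Scheme.{u}} (𝓗 : CohT K (Spec (CommRingCat.of R)))
    {F : BigSite.Ab K (Spec (CommRingCat.of R))} {n : ℕ} (f : A →+* B) (g : B →+* C) (h : A →+* C)
    (hf : f.comp φA = φB) (hg : g.comp φB = φC) (hh : h.comp φA = φC) (e : g.comp f = h)
    (x : 𝓗.H F n (AdFn.specOf φA)) :
    𝓗.res (AdFn.specOfHom φB φC g hg) (𝓗.res (AdFn.specOfHom φA φB f hf) x) =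
      𝓗.res (AdFn.specOfHom φA φC h hh) x := by
  subst e
  rw [← 𝓗.res_comp, specOfHom_comp]

/-! ## Products -/

theorem isDisj_iso {K : Precoverage Scheme.{u}} {S : Scheme.{u}} {ι : Type u} {W : ι → Over S} {Z Z' : Over S}
    {w : ∀ i, W i ⟶ Z} (h : IsDisj K w) (e : Z ≅ Z') {w' : ∀ i, W i ⟶ Z'} (hw : ∀ i, w i ≫ e.hom = w' i) :
    IsDisj K w' := by
  intro F
  have h3 : Function.Bijective (F.obj.map e.hom.op) := by
    refine Function.bijective_iff_has_inverse.2 ⟨F.obj.map e.inv.op, fun x => ?_, fun x => ?_⟩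
    · rw [res_comp, e.inv_hom_id, res_id]
    · rw [res_comp, e.hom_inv_id, res_id]
  have h4 : (fun (t : F.obj.obj (op Z')) (i : ι) => (F.obj.map (w' i).op t : F.obj.obj (op (W i)))) =
      (fun (t : F.obj.obj (op Z)) (i : ι) => (F.obj.map (w i).op t : F.obj.obj (op (W i)))) ∘
        (F.obj.map e.hom.op) := by
    funext t i
    dsimp only [Function.comp_apply]
    rw [res_comp, hw]
  rw [h4]
  exact (h F).comp h3

section Prod

variable {R B : Type u} [CommRing R] [CommRing B] {ι : Type u} [Finite ι] (C : ι → Type u) [∀ i, CommRing (C i)]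
  (φ : R →+* B) (ψ : ∀ i, R →+* C i) (χ : ∀ i, B →+* C i) (hχ : ∀ i, (χ i).comp φ = ψ i)
  (hb : Function.Bijective (fun (b : B) (i : ι) => χ i b))

/-- Isomorphic rings have isomorphic spectra. -/
noncomputable def specIso {A : Type u} [CommRing A] (e : B ≃+* A) (φA : R →+* A) (h : e.toRingHom.comp φ = φA)
    (h' : e.symm.toRingHom.comp φA = φ) : AdFn.specOf φA ≅ AdFn.specOf φ where
  hom := AdFn.specOfHom φ φA e.toRingHom h
  inv := AdFn.specOfHom φA φ e.symm.toRingHom h'
  hom_inv_id := by
    refine (specOfHom_comp φA φ φA e.symm.toRingHom e.toRingHom h' h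
      (RingHom.ext fun r => e.apply_symm_apply _)).trans ?_
    ext1
    refine (congrArg (fun f => Spec.map (CommRingCat.ofHom f)) (?_ : _ = RingHom.id _)).trans (Spec.map_id _)
    exact RingHom.ext fun r => e.apply_symm_apply r
  inv_hom_id := by
    refine (specOfHom_comp φ φA φ e.toRingHom e.symm.toRingHom h h'
      (RingHom.ext fun r => e.symm_apply_apply _)).trans ?_
    ext1
    refine (congrArg (fun f => Spec.map (CommRingCat.ofHom f)) (?_ : _ = RingHom.id _)).trans (Spec.map_id _)
    exact RingHom.ext fun r => e.symm_apply_apply r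

include hb in
/-- A ring which is a finite product through the maps `χ i`. -/
theorem isDisj_of_bijective :
    IsDisj Scheme.fppfPrecoverage (fun i => AdFn.specOfHom φ (ψ i) (χ i) (hχ i)) := by
  let e : B ≃+* ∀ i, C i := RingEquiv.ofBijective (RingHom.pi χ) hb
  refine isDisj_iso (GalSch.isDisj_pi C (e.toRingHom.comp φ) ψ (fun i => hχ i))
    (specIso φ e (e.toRingHom.comp φ) rfl (RingHom.ext fun r => e.symm_apply_apply (φ r))) fun i => ?_
  exact specOfHom_comp φ (e.toRingHom.comp φ) (ψ i) e.toRingHom (Pi.evalRingHom C i) rfl (hχ i) (hχ i)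

end Prod

/-! ## The adele ring -/

section Adele

variable {k K : Type u} [Field k] [Field K] [Algebra k K]

open FunFld AdFn

/-- The adeles integral outside `T`. -/
def AT (T : Set (Place k K)) : Subring (AdeleRing k K) where
  carrier := {a | ∀ v, v ∉ T → a.1 v ∈ Ov v}
  mul_mem' ha hb v hv := mul_mem (ha v hv) (hb v hv)
  one_mem' v _ := one_mem (Ov v)
  add_mem' ha hb v hv := add_mem (ha v hv) (hb v hv)
  zero_mem' v _ := zero_mem (Ov v)
  neg_mem' ha v hv := neg_mem (ha v hv)

theorem AT_mono {T T' : Set (Place k K)} (h : T ⊆ T') : (AT T : Subring (AdeleRing k K)) ≤ AT T' :=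
  fun _ ha v hv => ha v fun hv' => hv (h hv')

/-- Finite sets of places containing `S`. -/
abbrev Idx (S : Set (Place k K)) : Type u := {T : Set (Place k K) // T.Finite ∧ S ⊆ T}

instance (S : Set (Place k K)) : IsDirectedOrder (Idx S) where
  directed a b := ⟨⟨a.1 ∪ b.1, a.2.1.union b.2.1, a.2.2.trans Set.subset_union_left⟩,
    Set.subset_union_left, Set.subset_union_right⟩

theorem exists_mem_AT {S : Set (Place k K)} (hS : S.Finite) (a : AdeleRing k K) :
    ∃ T : Idx S, a ∈ (AT T.1 : Subring (AdeleRing k K)) := by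
  have ha : {v | a.1 v ∉ Ov v}.Finite := a.2
  refine ⟨⟨S ∪ {v | a.1 v ∉ Ov v}, hS.union ha, Set.subset_union_left⟩, fun v hv => ?_⟩
  by_contra h
  exact hv (Or.inr h)

variable [HasFinitePoles k K]

theorem toAd_mem {S T : Set (Place k K)} (h : S ⊆ T) (r : SInt S) : SInt.toAd S r ∈ (AT T : Subring (AdeleRing k K)) :=
  fun v hv => (toKv_mem_Ov v r.1).2 (r.2 v fun hv' => hv (h hv'))

/-- `O_S → AT T`. -/
noncomputable def toAT {S T : Set (Place k K)} (h : S ⊆ T) : SInt S →+* (AT T : Subring (AdeleRing k K)) :=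
  (SInt.toAd S).codRestrict (AT T) (toAd_mem h)

/-- `O_S → ∏_{v ∉ T} O_v`. -/
noncomputable def toOH {S T : Set (Place k K)} (h : S ⊆ T) : SInt S →+* OHat T :=
  RingHom.pi fun w : {w : Place k K // w ∉ T} => SInt.toOv S (fun hw => w.2 (h hw))

/-- `AT T → ∏_{v ∉ T} O_v`. -/
noncomputable def AT.toOH (T : Set (Place k K)) : (AT T : Subring (AdeleRing k K)) →+* OHat T :=
  RingHom.pi fun w : {w : Place k K // w ∉ T} =>
    ((AdeleRing.proj w.1).comp (AT T).subtype).codRestrict (Ov w.1).toSubring fun a => a.2 w.1 w.2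

/-- `AT T → K_v`. -/
noncomputable abbrev AT.toKv (T : Set (Place k K)) (v : Place k K) : (AT T : Subring (AdeleRing k K)) →+* Kv v :=
  (AdeleRing.proj v).comp (AT T).subtype

/-- The factors of `AT T`. -/
abbrev Fac (T : Set (Place k K)) : Option {v : Place k K // v ∈ T} → Type u
  | none => OHat T
  | some v => Kv v.1

noncomputable instance (T : Set (Place k K)) : ∀ i, CommRing (Fac T i)
  | none => inferInstanceAs (CommRing (OHat T))
  | some v => inferInstanceAs (CommRing (Kv v.1))

/-- The structure maps of the factors. -/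
noncomputable def facStr {S T : Set (Place k K)} (h : S ⊆ T) : ∀ i, SInt S →+* Fac T i
  | none => toOH h
  | some v => SInt.toKv S v.1

/-- The projections to the factors. -/
noncomputable def facProj (T : Set (Place k K)) : ∀ i, (AT T : Subring (AdeleRing k K)) →+* Fac T i
  | none => AT.toOH T
  | some v => AT.toKv T v.1

theorem facProj_comp {S T : Set (Place k K)} (h : S ⊆ T) : ∀ i, (facProj T i).comp (toAT h) = facStr h i
  | none => rfl
  | some _ => rfl

omit [HasFinitePoles k K] in
theorem facProj_bijective {T : Set (Place k K)} (hT : T.Finite) :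
    Function.Bijective (fun (b : (AT T : Subring (AdeleRing k K))) i => facProj T i b) := by
  classical
  constructor
  · intro a b hab
    apply Subtype.ext
    apply Subtype.ext
    funext v
    by_cases hv : v ∈ T
    · exact congrFun hab (some ⟨v, hv⟩)
    · have h := congrFun hab none
      exact congrArg Subtype.val (congrFun h ⟨v, hv⟩)
  · intro c
    let f : ∀ v : Place k K, Kv v := fun v => if hv : v ∈ T then c (some ⟨v, hv⟩) else ((c none : OHat T) ⟨v, hv⟩).1
    have hf : ∀ v, v ∉ T → f v ∈ Ov v := fun v hv => by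
      dsimp only [f]
      rw [dif_neg hv]
      exact ((c none : OHat T) ⟨v, hv⟩).2
    refine ⟨⟨⟨f, ?_⟩, hf⟩, ?_⟩
    · refine (hT.subset fun v hv => ?_ : {v | f v ∉ Ov v}.Finite)
      by_contra h
      exact hv (hf v h)
    · funext i
      match i with
      | none =>
        funext w
        apply Subtype.ext
        change f w.1 = _
        dsimp only [f]
        rw [dif_neg w.2]
      | some v =>
        change f v.1 = _
        dsimp only [f]
        rw [dif_pos v.2]

/-- `Spec AT T` is the disjoint union of the `Spec K_v`, `v ∈ T`, and of `Spec ∏_{v ∉ T} O_v`. -/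
theorem isDisj_AT {S T : Set (Place k K)} (h : S ⊆ T) (hT : T.Finite) :
    IsDisj Scheme.fppfPrecoverage
      (fun i => specOfHom (toAT h) (facStr h i) (facProj T i) (facProj_comp h i)) := by
  have := hT.to_subtype
  exact isDisj_of_bijective (Fac T) (toAT h) (facStr h) (facProj T) (facProj_comp h) (facProj_bijective hT)

end Adele

end K963.AdLev
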