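import Groth.Agent.TateGlob.K963.AdLev

/-!
# Cohomology of the adele ring: assembly

`F` a limit preserving abelian sheaf on the big fppf site of `Spec O_S`, `S` finite. `OInj`, `OSurj`, `IInj` are the
hypotheses "`H^n(∏_{v ∉ T} O_v) → ∏_{v ∉ T} H^n(O_v)` is injective resp. surjective for all large finite `T`" and
"`H^n(O_v) → H^n(K_v)` is injective for almost all `v`".
-/

set_option autoImplicit false
set_option backward.isDefEq.respectTransparency.types false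

universe u

open CategoryTheory CategoryTheory.Limits AlgebraicGeometry Opposite
open K828 K828.LPre K828.Cech K828.Cartan K963.AdLev
open FunFld AdFn
open scoped RestrictedProduct

namespace K963.Asm

variable {k K : Type u} [Field k] [Field K] [Algebra k K] {S : Set (Place k K)}
  (𝓗 : CohT Scheme.fppfPrecoverage (Spec (CommRingCat.of (SInt S))))
  (F : BigSite.Ab Scheme.fppfPrecoverage (Spec (CommRingCat.of (SInt S)))) (n : ℕ)

/-- `Spec O_v → Spec ∏_{w ∉ T} O_w` over `Spec O_S`. -/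
noncomputable def ohHom {T : Set (Place k K)} (h : S ⊆ T) {v : Place k K} (hv : v ∉ T) :
    specOf (SInt.toOv S fun h' => hv (h h')) ⟶ specOf (toOH h) :=
  specOfHom _ _ (OHat.proj T hv) (RingHom.ext fun _ => rfl)

/-- Injectivity of `H^n(∏_{v ∉ T} O_v) → ∏_{v ∉ T} H^n(O_v)` for `T ⊇ T₀` finite. -/
def OInj (T₀ : Set (Place k K)) : Prop :=
  ∀ (T : Set (Place k K)), T.Finite → ∀ h : S ⊆ T, T₀ ⊆ T → ∀ x : 𝓗.H F n (specOf (toOH h)),
    (∀ v (hv : v ∉ T), 𝓗.res (ohHom h hv) x = 0) → x = 0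

/-- Surjectivity of `H^n(∏_{v ∉ T} O_v) → ∏_{v ∉ T} H^n(O_v)` for `T ⊇ T₀` finite. -/
def OSurj (T₀ : Set (Place k K)) : Prop :=
  ∀ (T : Set (Place k K)), T.Finite → ∀ h : S ⊆ T, T₀ ⊆ T →
    ∀ y : ∀ (v : Place k K) (hv : v ∉ T), 𝓗.H F n (specOf (SInt.toOv S fun h' => hv (h h'))),
      ∃ x : 𝓗.H F n (specOf (toOH h)), ∀ v (hv : v ∉ T), 𝓗.res (ohHom h hv) x = y v hv

/-- Vanishing of `H^n(∏_{v ∉ T} O_v)` for `T ⊇ T₀` finite. -/
def OZero (T₀ : Set (Place k K)) : Prop :=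
  ∀ (T : Set (Place k K)), T.Finite → ∀ h : S ⊆ T, T₀ ⊆ T → ∀ x : 𝓗.H F n (specOf (toOH h)), x = 0

/-- Injectivity of `H^n(O_v) → H^n(K_v)` for `v ∉ T₀`. -/
def IInj (T₀ : Set (Place k K)) : Prop :=
  ∀ (v : Place k K) (hv : v ∉ S), v ∉ T₀ → ∀ x : 𝓗.H F n (specOf (SInt.toOv S hv)),
    𝓗.res (intResHom S hv) x = 0 → x = 0

variable [HasFinitePoles k K]

variable {𝓗 F n}

/-- `H^n(AT T) → H^n(∏_{v ∉ T} O_v)`. -/
noncomputable def rOH {T : Set (Place k K)} (h : S ⊆ T) : 𝓗.H F n (specOf (toAT h)) →+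
    𝓗.H F n (specOf (toOH h)) :=
  𝓗.res (specOfHom (toAT h) (toOH h) (AT.toOH T) (facProj_comp h none))

/-- `H^n(AT T) → H^n(K_v)`. -/
noncomputable def rKv {T : Set (Place k K)} (h : S ⊆ T) (v : Place k K) : 𝓗.H F n (specOf (toAT h)) →+
    𝓗.H F n (specOf (SInt.toKv S v)) :=
  𝓗.res (specOfHom (toAT h) (SInt.toKv S v) (AT.toKv T v) (RingHom.ext fun _ => rfl))

/-- `H^n(AT T) → H^n(A)`. -/
noncomputable def rAd {T : Set (Place k K)} (h : S ⊆ T) : 𝓗.H F n (specOf (toAT h)) →+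
    𝓗.H F n (specOf (SInt.toAd S)) :=
  𝓗.res (specOfHom (toAT h) (SInt.toAd S) (AT T : Subring (AdeleRing k K)).subtype (RingHom.ext fun _ => rfl))

theorem res_rAd {T : Set (Place k K)} (h : S ⊆ T) (y : 𝓗.H F n (specOf (toAT h))) (v : Place k K) :
    𝓗.res (adProjSHom S v) (rAd h y) = rKv h v y :=
  res_res 𝓗 _ _ _ _ _ _ rfl y

theorem res_rOH {T : Set (Place k K)} (h : S ⊆ T) (y : 𝓗.H F n (specOf (toAT h))) {v : Place k K} (hv : v ∉ T) :
    𝓗.res (intResHom S fun h' => hv (h h')) (𝓗.res (ohHom h hv) (rOH h y)) = rKv h v y := by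
  have h1 : 𝓗.res (ohHom h hv) (rOH h y) =
      𝓗.res (specOfHom (toAT h) (SInt.toOv S fun h' => hv (h h')) ((OHat.proj T hv).comp (AT.toOH T))
        (RingHom.ext fun _ => rfl)) y :=
    res_res 𝓗 _ _ _ _ _ _ rfl y
  rw [h1]
  exact res_res 𝓗 _ _ _ _ _ _ rfl y

/-- A class on `Spec AT T` vanishing on all the factors is zero. -/
theorem eq_zero_AT {T : Set (Place k K)} (h : S ⊆ T) (hT : T.Finite) (y : 𝓗.H F n (specOf (toAT h)))
    (h1 : rOH h y = 0) (h2 : ∀ v ∈ T, rKv h v y = 0) : y = 0 := by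
  refine DisjVan.eq_zero 𝓗 (isDisj_AT h hT) n F y fun i => ?_
  match i with
  | none => exact h1
  | some v => exact h2 v.1 v.2

/-- Classes on the factors glue. -/
theorem exists_glue_AT {T : Set (Place k K)} (h : S ⊆ T) (hT : T.Finite) (a : 𝓗.H F n (specOf (toOH h)))
    (b : ∀ v : Place k K, 𝓗.H F n (specOf (SInt.toKv S v))) :
    ∃ y : 𝓗.H F n (specOf (toAT h)), rOH h y = a ∧ ∀ v ∈ T, rKv h v y = b v := by
  obtain ⟨y, hy⟩ := DisjVan.exists_glue 𝓗 (isDisj_AT h hT) n F (fun i => match i with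
    | none => a
    | some v => b v.1)
  exact ⟨y, hy none, fun v hv => hy (some ⟨v, hv⟩)⟩

/-- A class on the adele ring comes from some finite level `T ⊇ T₀`. -/
theorem exists_rAd (hS : S.Finite) {T₀ : Set (Place k K)} (hT₀ : T₀.Finite) (hF : LP F.obj)
    (x : 𝓗.H F n (specOf (SInt.toAd S))) :
    ∃ (T : Set (Place k K)) (_ : T.Finite) (h : S ⊆ T) (_ : T₀ ⊆ T) (y : 𝓗.H F n (specOf (toAT h))), rAd h y = x := by
  have : Nonempty (Idx S) := ⟨⟨S, hS, le_rfl⟩⟩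
  obtain ⟨T, y, hy⟩ := exists_level (SInt.toAd S) (fun T : Idx S => (AT T.1 : Subring (AdeleRing k K)))
    (fun T T' h => AT_mono h) (fun T r => toAd_mem T.2.2 r) 𝓗 (exists_mem_AT hS) hF x
  have hT : T.1 ⊆ T.1 ∪ T₀ := Set.subset_union_left
  refine ⟨T.1 ∪ T₀, T.2.1.union hT₀, T.2.2.trans hT, Set.subset_union_right,
    𝓗.res (specOfHom (toAT T.2.2) (toAT (T.2.2.trans hT)) (Subring.inclusion (AT_mono hT))
      (RingHom.ext fun _ => rfl)) y, ?_⟩
  rw [← hy]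
  exact res_res 𝓗 _ _ _ _ _ _ rfl y

/-- A class of a finite level vanishing in the adele ring vanishes at a later level. -/
theorem exists_rAT_eq_zero (hS : S.Finite) (hF : LP F.obj) {T : Set (Place k K)} (hT : T.Finite) (h : S ⊆ T)
    (y : 𝓗.H F n (specOf (toAT h))) (hy : rAd h y = 0) :
    ∃ (T' : Set (Place k K)) (_ : T'.Finite) (h' : T ⊆ T'),
      𝓗.res (specOfHom (toAT h) (toAT (h.trans h')) (Subring.inclusion (AT_mono h')) (RingHom.ext fun _ => rfl)) y =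
        0 := by
  have : Nonempty (Idx S) := ⟨⟨S, hS, le_rfl⟩⟩
  obtain ⟨T', h', hy'⟩ := exists_level_eq_zero (SInt.toAd S) (fun T : Idx S => (AT T.1 : Subring (AdeleRing k K)))
    (fun T T' h => AT_mono h) (fun T r => toAd_mem T.2.2 r) 𝓗 (exists_mem_AT hS) hF (i := ⟨T, hT, h⟩) y hy
  exact ⟨T'.1, T'.2.1, h', hy'⟩

section Main

variable (hS : S.Finite) {T₀ : Set (Place k K)} (hT₀ : T₀.Finite) (hF : LP F.obj)

include hS hT₀ hF

/-- Injectivity of `H^n(A) → ∏ H^n(K_v)`. -/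
theorem eq_zero (h1 : OInj 𝓗 F n T₀) (h2 : IInj 𝓗 F n T₀) (x : 𝓗.H F n (specOf (SInt.toAd S)))
    (hx : ∀ v, 𝓗.res (adProjSHom S v) x = 0) : x = 0 := by
  obtain ⟨T, hT, h, hT', y, rfl⟩ := exists_rAd hS hT₀ hF x
  have hy : ∀ v, rKv h v y = 0 := fun v => by rw [← res_rAd, hx]
  have : y = 0 := by
    refine eq_zero_AT h hT y (h1 T hT h hT' _ fun v hv => ?_) fun v _ => hy v
    exact h2 v (fun h' => hv (h h')) (fun h' => hv (hT' h')) _ ((res_rOH h y hv).trans (hy v))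
  exact (congrArg (rAd h) this).trans (map_zero _)

/-- Almost all components come from `O_v`. -/
theorem eventually_mem (x : 𝓗.H F n (specOf (SInt.toAd S))) :
    ∀ᶠ v in Filter.cofinite, ∃ (hv : v ∉ S) (z : 𝓗.H F n (specOf (SInt.toOv S hv))),
      𝓗.res (intResHom S hv) z = 𝓗.res (adProjSHom S v) x := by
  obtain ⟨T, hT, h, hT', y, rfl⟩ := exists_rAd hS hT₀ hF x
  refine (hT.subset fun v hv => ?_ : {v | ¬ ∃ (hv : v ∉ S) (z : 𝓗.H F n (specOf (SInt.toOv S hv))),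
      𝓗.res (intResHom S hv) z = 𝓗.res (adProjSHom S v) (rAd h y)}.Finite)
  by_contra hvT
  exact hv ⟨fun h' => hvT (h h'), 𝓗.res (ohHom h hvT) (rOH h y), by rw [res_rOH, res_rAd]⟩

omit hF in
/-- A family of classes almost all of which come from `O_v` comes from the adele ring. -/
theorem exists_of_eventually (h1 : OSurj 𝓗 F n T₀) (z : ∀ v : Place k K, 𝓗.H F n (specOf (SInt.toKv S v)))
    (hz : ∀ᶠ v in Filter.cofinite, ∃ (hv : v ∉ S) (w : 𝓗.H F n (specOf (SInt.toOv S hv))),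
      𝓗.res (intResHom S hv) w = z v) :
    ∃ x : 𝓗.H F n (specOf (SInt.toAd S)), ∀ v, 𝓗.res (adProjSHom S v) x = z v := by
  have hz' : {v | ¬ ∃ (hv : v ∉ S) (w : 𝓗.H F n (specOf (SInt.toOv S hv))),
      𝓗.res (intResHom S hv) w = z v}.Finite := hz
  set T : Set (Place k K) := S ∪ T₀ ∪ {v | ¬ ∃ (hv : v ∉ S) (w : 𝓗.H F n (specOf (SInt.toOv S hv))),
      𝓗.res (intResHom S hv) w = z v} with hTdef
  have hT : T.Finite := (hS.union hT₀).union hz'
  have h : S ⊆ T := fun v hv => Or.inl (Or.inl hv)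
  have h' : T₀ ⊆ T := fun v hv => Or.inl (Or.inr hv)
  have hw : ∀ v (hv : v ∉ T), ∃ w : 𝓗.H F n (specOf (SInt.toOv S fun h' => hv (h h'))),
      𝓗.res (intResHom S _) w = z v := by
    intro v hv
    have hv' := hv
    simp only [hTdef, Set.mem_union, Set.mem_ofPred_eq, not_or, not_not] at hv'
    obtain ⟨-, hv1, w, hw⟩ := hv'
    exact ⟨w, hw⟩
  choose w hw using hw
  obtain ⟨a, ha⟩ := h1 T hT h h' w
  obtain ⟨y, hy1, hy2⟩ := exists_glue_AT h hT a z
  refine ⟨rAd h y, fun v => ?_⟩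
  rw [res_rAd]
  by_cases hv : v ∈ T
  · exact hy2 v hv
  · rw [← res_rOH h y hv, hy1, ha, hw]

/-- Injectivity when the cohomology of `∏ O_v` vanishes. -/
theorem eq_zero_of_oZero (h1 : OZero 𝓗 F n T₀) (x : 𝓗.H F n (specOf (SInt.toAd S)))
    (hx : ∀ v, 𝓗.res (adProjSHom S v) x = 0) : x = 0 := by
  obtain ⟨T, hT, h, hT', y, rfl⟩ := exists_rAd hS hT₀ hF x
  have hy : ∀ v, rKv h v y = 0 := fun v => by rw [← res_rAd, hx]
  have : y = 0 := eq_zero_AT h hT y (h1 T hT h hT' _) fun v _ => hy v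
  exact (congrArg (rAd h) this).trans (map_zero _)

/-- Almost all components vanish when the cohomology of `∏ O_v` vanishes. -/
theorem eventually_eq_zero (h1 : OZero 𝓗 F n T₀) (x : 𝓗.H F n (specOf (SInt.toAd S))) :
    ∀ᶠ v in Filter.cofinite, 𝓗.res (adProjSHom S v) x = 0 := by
  obtain ⟨T, hT, h, hT', y, rfl⟩ := exists_rAd hS hT₀ hF x
  refine (hT.subset fun v hv => ?_ : {v | ¬ 𝓗.res (adProjSHom S v) (rAd h y) = 0}.Finite)
  by_contra hvT
  exact hv (by rw [res_rAd, ← res_rOH h y hvT, h1 T hT h hT' (rOH h y), map_zero, map_zero])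

omit hT₀ hF in
/-- A family of classes almost all of which vanish comes from the adele ring. -/
theorem exists_of_eventually_eq_zero (z : ∀ v : Place k K, 𝓗.H F n (specOf (SInt.toKv S v)))
    (hz : ∀ᶠ v in Filter.cofinite, z v = 0) :
    ∃ x : 𝓗.H F n (specOf (SInt.toAd S)), ∀ v, 𝓗.res (adProjSHom S v) x = z v := by
  obtain ⟨T, hT, h, hT'⟩ : ∃ T : Set (Place k K), T.Finite ∧ S ⊆ T ∧ ∀ v, v ∉ T → z v = 0 := by
    have hz' : {v | ¬ z v = 0}.Finite := hz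
    refine ⟨S ∪ {v | ¬ z v = 0}, hS.union hz', Set.subset_union_left, fun v hv => ?_⟩
    by_contra h0
    exact hv (Or.inr h0)
  obtain ⟨y, hy1, hy2⟩ := exists_glue_AT h hT (0 : 𝓗.H F n (specOf (toOH h))) z
  refine ⟨rAd h y, fun v => ?_⟩
  rw [res_rAd]
  by_cases hv : v ∈ T
  · exact hy2 v hv
  · rw [hT' v hv, ← res_rOH h y hv, hy1, map_zero, map_zero]

/-- Vanishing. -/
theorem eq_zero_of_forall (h1 : OZero 𝓗 F n T₀) (h2 : ∀ v, ∀ z : 𝓗.H F n (specOf (SInt.toKv S v)), z = 0)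
    (x : 𝓗.H F n (specOf (SInt.toAd S))) : x = 0 :=
  eq_zero_of_oZero hS hT₀ hF h1 x fun v => h2 v _

end Main

end K963.Asm
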