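import Groth.Agent.TateGlob.K828.BigCoh

/-!
# Change of base for the cohomology theory `BigSite.HU`

`t : S' ⟶ S`, `F` an abelian sheaf on the big site of `S`, `T` an `S'`-scheme:
`muE : HU (t^*F) n T ≃+ HU F n (T → S' → S)`, natural in `F`, compatible with restriction, with the connecting maps and with
sections. Abstractly: `CohCmp`, `cmp`.
-/

set_option autoImplicit false
set_option linter.unusedVariables false

universe u

open CategoryTheory CategoryTheory.Limits AlgebraicGeometry Opposite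
open K828 K828.Kit K828.BigCoh K827.Deg0 K827.Deg0b

namespace K963.BcCoh

variable {K : Precoverage Scheme.{u}} {S S' : Scheme.{u}} (t : S' ⟶ S)

/-- The structure morphism of `T` as a morphism of `S`-schemes. -/
noncomputable def gT (T : Over S') : (Over.map t).obj T ⟶ Over.mk t := Over.homMk T.hom

/-- Pulling back to `T` in two steps. -/
noncomputable def pIso (F : BigSite.Ab K S) (T : Over S') :
    (BigSite.pullBig K T.hom AddCommGrpCat.{u + 1}).obj ((BigSite.pullBig K t AddCommGrpCat.{u + 1}).obj F) ≅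
      (BigSite.pullBig K ((Over.map t).obj T).hom AddCommGrpCat.{u + 1}).obj F :=
  HRes.pullIso K F (gT t T)

theorem pIso_nat {F G : BigSite.Ab K S} (φ : F ⟶ G) (T : Over S') :
    (BigSite.pullBig K T.hom AddCommGrpCat.{u + 1}).map ((BigSite.pullBig K t AddCommGrpCat.{u + 1}).map φ) ≫
        (pIso t G T).hom =
      (pIso t F T).hom ≫ (BigSite.pullBig K ((Over.map t).obj T).hom AddCommGrpCat.{u + 1}).map φ :=
  pullIso_naturality φ (gT t T)

/-- The comparison map. -/
noncomputable def mu (F : BigSite.Ab K S) (n : ℕ) (T : Over S') :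
    BigSite.HU K ((BigSite.pullBig K t AddCommGrpCat.{u + 1}).obj F) n T →+ BigSite.HU K F n ((Over.map t).obj T) :=
  Sheaf.H.map (pIso t F T).hom n

theorem mu_bijective (F : BigSite.Ab K S) (n : ℕ) (T : Over S') : Function.Bijective (mu t F n T) := by
  refine ⟨fun x y h => ?_, fun y => ⟨Sheaf.H.map (pIso t F T).inv n y, ?_⟩⟩
  · have := congrArg (Sheaf.H.map (pIso t F T).inv n) h
    rw [mu, ← Sheaf.H.map_comp_apply, ← Sheaf.H.map_comp_apply, (pIso t F T).hom_inv_id, Sheaf.H.map_id_apply,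
      Sheaf.H.map_id_apply] at this
    exact this
  · rw [mu, ← Sheaf.H.map_comp_apply, (pIso t F T).inv_hom_id, Sheaf.H.map_id_apply]

theorem mu_map {F G : BigSite.Ab K S} (φ : F ⟶ G) (n : ℕ) (T : Over S')
    (x : BigSite.HU K ((BigSite.pullBig K t AddCommGrpCat.{u + 1}).obj F) n T) :
    mu t G n T (mapHU ((BigSite.pullBig K t AddCommGrpCat.{u + 1}).map φ) n T x) =
      mapHU φ n ((Over.map t).obj T) (mu t F n T x) := by
  rw [mu, mu, mapHU, mapHU, ← Sheaf.H.map_comp_apply, ← Sheaf.H.map_comp_apply, pIso_nat]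

theorem mu_del {A : ShortComplex (BigSite.Ab K S)} (hA : A.ShortExact) (n : ℕ) (T : Over S')
    (x : BigSite.HU K ((BigSite.pullBig K t AddCommGrpCat.{u + 1}).obj A.X₃) n T) :
    mu t A.X₁ (n + 1) T (delHU (pull_shortExact t hA) n T x) =
      delHU hA n ((Over.map t).obj T) (mu t A.X₃ n T x) := by
  let φ : (A.map (BigSite.pullBig K t AddCommGrpCat.{u + 1})).map (BigSite.pullBig K T.hom AddCommGrpCat.{u + 1}) ⟶
      A.map (BigSite.pullBig K ((Over.map t).obj T).hom AddCommGrpCat.{u + 1}) :=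
    { τ₁ := (pIso t A.X₁ T).hom
      τ₂ := (pIso t A.X₂ T).hom
      τ₃ := (pIso t A.X₃ T).hom
      comm₁₂ := (pIso_nat t A.f T).symm
      comm₂₃ := (pIso_nat t A.g T).symm }
  exact map_del_naturality (pull_shortExact T.hom (pull_shortExact t hA))
    (pull_shortExact ((Over.map t).obj T).hom hA) φ n x

theorem hu0_mu (F : BigSite.Ab K S) (T : Over S')
    (x : BigSite.HU K ((BigSite.pullBig K t AddCommGrpCat.{u + 1}).obj F) 0 T) :
    hu0 K F ((Over.map t).obj T) (mu t F 0 T x) = hu0 K ((BigSite.pullBig K t AddCommGrpCat.{u + 1}).obj F) T x := by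
  rw [hu0_apply, hu0_apply, mu, h0_map]
  generalize h0 K ((BigSite.pullBig K T.hom AddCommGrpCat.{u + 1}).obj
    ((BigSite.pullBig K t AddCommGrpCat.{u + 1}).obj F)) x = y
  have h1 : (pIso t F T).hom.hom.app (op (Over.mk (𝟙 T.left))) = F.obj.map (eC (gT t T) (Over.mk (𝟙 T.left))).op :=
    pullIso_hom_app K F (gT t T) (Over.mk (𝟙 T.left))
  refine (congrArg (F.obj.map (eT ((Over.map t).obj T)).hom.op)
    (ConcreteCategory.congr_hom h1 y)).trans ?_
  refine (map2 F.obj _ _ _ rfl y).trans ?_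
  change _ = F.obj.map ((Over.map t).map (eT T).hom).op y
  congr 3

theorem mu_res (n : ℕ) : ∀ (F : BigSite.Ab K S) {T T' : Over S'} (g : T' ⟶ T)
    (x : BigSite.HU K ((BigSite.pullBig K t AddCommGrpCat.{u + 1}).obj F) n T),
    mu t F n T' (HRes.resHU K _ n g x) = HRes.resHU K F n ((Over.map t).map g) (mu t F n T x) := by
  induction n with
  | zero =>
    intro F T T' g x
    apply (hu0 K F ((Over.map t).obj T')).injective
    rw [hu0_mu, hu0_resHU, hu0_resHU, hu0_mu]
    rfl
  | succ n ih =>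
    intro F T T' g x
    obtain ⟨A, hA, rfl, hI⟩ := CohT.exists_injective_embedding F
    have : Injective (A.map (BigSite.pullBig K t AddCommGrpCat.{u + 1})).X₂ := K828.Inj.injective_pullBig t K A.X₂
    obtain ⟨y, rfl⟩ := exactHU₁ (pull_shortExact t hA) n x (eq_zero_of_injective _ _)
    have h1 := resHU_del (pull_shortExact t hA) n g y
    refine (congrArg (mu t A.X₁ (n + 1) T') h1).trans ?_
    refine (mu_del t hA n T' _).trans ?_
    refine (congrArg (delHU hA n ((Over.map t).obj T')) (ih A.X₃ g y)).trans ?_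
    refine (resHU_del hA n ((Over.map t).map g) _).symm.trans ?_
    exact congrArg (HRes.resHU K A.X₁ (n + 1) ((Over.map t).map g)) (mu_del t hA n T y).symm

/-- A comparison between cohomology theories over `S` and `S'`. -/
structure CohCmp (𝓗 : CohT K S) (𝓗' : CohT K S') where
  e : ∀ (F : BigSite.Ab K S) (n : ℕ) (T : Over S'),
    𝓗'.H ((BigSite.pullBig K t AddCommGrpCat.{u + 1}).obj F) n T ≃+ 𝓗.H F n ((Over.map t).obj T)
  e_res : ∀ (F : BigSite.Ab K S) (n : ℕ) {T T' : Over S'} (g : T' ⟶ T)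
    (x : 𝓗'.H ((BigSite.pullBig K t AddCommGrpCat.{u + 1}).obj F) n T),
    e F n T' (𝓗'.res g x) = 𝓗.res ((Over.map t).map g) (e F n T x)
  e_map : ∀ {F G : BigSite.Ab K S} (φ : F ⟶ G) (n : ℕ) (T : Over S')
    (x : 𝓗'.H ((BigSite.pullBig K t AddCommGrpCat.{u + 1}).obj F) n T),
    e G n T (𝓗'.map ((BigSite.pullBig K t AddCommGrpCat.{u + 1}).map φ) x) = 𝓗.map φ (e F n T x)
  e_del : ∀ {A : ShortComplex (BigSite.Ab K S)} (hA : A.ShortExact)
    (hA' : (A.map (BigSite.pullBig K t AddCommGrpCat.{u + 1})).ShortExact) (n : ℕ) (T : Over S')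
    (x : 𝓗'.H ((BigSite.pullBig K t AddCommGrpCat.{u + 1}).obj A.X₃) n T),
    e A.X₁ (n + 1) T (𝓗'.del hA' x) = 𝓗.del hA (e A.X₃ n T x)
  sec_e : ∀ (F : BigSite.Ab K S) (T : Over S')
    (x : 𝓗'.H ((BigSite.pullBig K t AddCommGrpCat.{u + 1}).obj F) 0 T),
    𝓗.sec (e F 0 T x) = 𝓗'.sec x

/-- The comparison for `BigSite.HU`. -/
noncomputable def cmp : CohCmp t (bigCoh K S) (bigCoh K S') where
  e F n T := AddEquiv.ofBijective (mu t F n T) (mu_bijective t F n T)
  e_res F n {T T'} g x := mu_res t n F g x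
  e_map {F G} φ n T x := mu_map t φ n T x
  e_del {A} hA hA' n T x := mu_del t hA n T x
  sec_e F T x := hu0_mu t F T x

end K963.BcCoh
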