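import Groth.Agent.TateGlob.K828.OvHens
import Groth.Agent.TateGlob.K829.FunBase
import Groth.Agent.TateLoc.K789.CdLoc
import Groth.Agent.TateLoc.K789.GrpVan

/-!
# The completions of a global function field have cohomological dimension two

* `dvr v`: `O_v` is a discrete valuation ring;
* `cd_Kv`: `cd_ℓ(K_v) ≤ 2`;
* `subsingleton_H`: `H^i(K_v, G) = 0`, `i > 2`, `G` a commutative group scheme of finite type over `K_v`.
-/

set_option autoImplicit false
universe u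
open CategoryTheory AlgebraicGeometry AdFn FunFld

namespace K963.KvVan

section dvr

variable {k K : Type u} [Field k] [Field K] [Algebra k K] (v : Place k K)

open K828.OvHens

theorem irreducible {π : Ov v} (hπ : Valued.v (π : Kv v) = WithZero.exp (-1 : ℤ)) : Irreducible π := by
  refine ⟨fun h => ?_, fun a b hab => ?_⟩
  · rw [isUnit_iff, hπ, ← WithZero.exp_zero, WithZero.exp_inj] at h
    omega
  · have h1 : Valued.v (a : Kv v) * Valued.v (b : Kv v) = WithZero.exp (-1 : ℤ) := by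
      rw [← hπ, ← map_mul, hab]
      rfl
    have ha : Valued.v (a : Kv v) ≤ 1 := a.2
    have hb : Valued.v (b : Kv v) ≤ 1 := b.2
    rw [isUnit_iff, isUnit_iff]
    by_contra hcon
    rw [not_or] at hcon
    have ha' := (lt_one_iff _).1 (lt_of_le_of_ne ha hcon.1)
    have hb' := (lt_one_iff _).1 (lt_of_le_of_ne hb hcon.2)
    have h2 := mul_le_mul' ha' hb'
    rw [h1, ← WithZero.exp_add, WithZero.exp_le_exp] at h2
    omega

/-- `O_v` is a discrete valuation ring. -/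
theorem dvr : IsDiscreteValuationRing (Ov v) := by
  obtain ⟨π, hπ⟩ := exists_unif v
  have hπ0 : (π : Kv v) ≠ 0 := by
    intro h
    rw [h, map_zero] at hπ
    exact WithZero.exp_ne_zero hπ.symm
  refine IsDiscreteValuationRing.ofHasUnitMulPowIrreducibleFactorization ⟨π, irreducible v hπ, fun {x} hx => ?_⟩
  have hx0 : (x : Kv v) ≠ 0 := fun h => hx (Subtype.ext h)
  have hv0 : Valued.v (x : Kv v) ≠ 0 := (Valuation.ne_zero_iff _).2 hx0
  have hv1 : Valued.v (x : Kv v) ≤ 1 := x.2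
  obtain ⟨m, hm⟩ : ∃ m : ℤ, Valued.v (x : Kv v) = WithZero.exp m := ⟨_, (WithZero.exp_log hv0).symm⟩
  have hm0 : m ≤ 0 := by
    rw [hm, ← WithZero.exp_zero, WithZero.exp_le_exp] at hv1
    exact hv1
  obtain ⟨n, hn⟩ : ∃ n : ℕ, m = -(n : ℤ) := ⟨(-m).toNat, by omega⟩
  have hpow : Valued.v ((π : Kv v) ^ n) = WithZero.exp m := by
    rw [map_pow, hπ, ← WithZero.exp_nsmul, hn]
    simp
  have hu : Valued.v ((x : Kv v) * ((π : Kv v) ^ n)⁻¹) = 1 := by
    rw [map_mul, map_inv₀, hpow, hm]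
    exact mul_inv_cancel₀ WithZero.exp_ne_zero
  refine ⟨n, ?_⟩
  have hmem : (x : Kv v) * ((π : Kv v) ^ n)⁻¹ ∈ Ov v := by
    rw [mem_Ov, hu]
  have hunit : IsUnit (⟨(x : Kv v) * ((π : Kv v) ^ n)⁻¹, hmem⟩ : Ov v) := (isUnit_iff v _).2 hu
  obtain ⟨w, hw⟩ := hunit
  refine ⟨w, Subtype.ext ?_⟩
  have h5 : ((w : Ov v) : Kv v) = (x : Kv v) * ((π : Kv v) ^ n)⁻¹ := congrArg Subtype.val hw
  change (π : Kv v) ^ n * ((w : Ov v) : Kv v) = x
  rw [h5, mul_comm, mul_assoc, inv_mul_cancel₀ (pow_ne_zero n hπ0), mul_one]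

end dvr

variable {Fq : Type u} [Field Fq] [Finite Fq] {K : Type u} [Field K] [Algebra (RatFunc Fq) K] [FunctionField Fq K]
  [Algebra Fq K] [IsScalarTower Fq (RatFunc Fq) K]

/-- `cd_ℓ(K_v) ≤ 2`. -/
theorem cd_Kv (v : Place Fq K) (ℓ : ℕ) (hℓ : ℓ.Prime) : Dix.CohDimLEAt (Spec (CommRingCat.of (Kv v))) ℓ 2 := by
  by_cases h0 : (ℓ : Kv v) = 0
  · exact K789.CdLoc.mono (by omega) (K789.CdChar.cd_char (Kv v) ℓ hℓ h0)
  · have hd := dvr v
    have hh := K828.OvHens.henselian v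
    have hfin : Finite (IsLocalRing.ResidueField (Ov v)) :=
      K828.OvHens.finite_residueField v (K829.FunBase.isGen Fq K)
    have hcd := K789.CdLoc.cd_finite (IsLocalRing.ResidueField (Ov v)) ℓ hℓ
    exact ((Groth.Agent.S3484.result (Ov v) (Kv v) ℓ hℓ (Or.inr ⟨h0, inferInstance, 1, hcd⟩)).1 1).1 hcd

/-- `H^i(K_v, G) = 0`, `i > 2`. -/
theorem subsingleton_H (v : Place Fq K) (G : Over (Spec (CommRingCat.of (Kv v)))) [GrpObj G] [IsCommMonObj G]
    [LocallyOfFiniteType G.hom] [QuasiCompact G.hom] (i : ℕ) (hi : 2 < i) :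
    Subsingleton (BigSite.H Scheme.fppfPrecoverage (Spec (CommRingCat.of (Kv v)))
      (CGrpSh.pts Scheme.fppfPrecoverage G) i) :=
  K789.GrpVan.subsingleton_H 2 le_rfl (fun ℓ hℓ => cd_Kv v ℓ hℓ) G i hi

end K963.KvVan
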