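import Groth.Agent.TateGlob.K963.BcCoh
import Groth.Agent.TateGlob.K963.AsmAbs

/-!
# Change of `S` for the cohomology of `∏_{v ∉ T} O_v` and `O_v`

* `eps`: cohomology over a ring `A` of a sheaf on `Spec R` and of its restriction to `Spec R'`, `R → R' → A`.
* `PInj`, `PSurj`, `PZero`: injectivity resp. surjectivity of `H^n(∏_{v ∉ T} O_v) → ∏_{v ∉ T} H^n(O_v)`, resp. vanishing of
  `H^n(∏_{v ∉ T} O_v)`, for one `T`; `PInj.mono` etc.: from `T` to `T' ⊇ T` finite.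
* `pInj_iff` etc.: compatibility with enlarging the base `O_S ⊆ O_{T₁}`, `S ⊆ T₁ ⊆ T`.
-/

set_option autoImplicit false
set_option backward.isDefEq.respectTransparency.types false

universe u

open CategoryTheory CategoryTheory.Limits AlgebraicGeometry Opposite
open K828 K828.LPre K828.Cartan K963.BcCoh K963.AdLev K963.Asm
open FunFld AdFn

namespace K963.Trans

section General

variable {P : Precoverage Scheme.{u}} {R R' : Type u} [CommRing R] [CommRing R'] (ρ : R →+* R')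
  {𝓗 : CohT P (Spec (CommRingCat.of R))} {𝓗' : CohT P (Spec (CommRingCat.of R'))}
  (C : CohCmp (Spec.map (CommRingCat.ofHom ρ)) 𝓗 𝓗')
  {F : BigSite.Ab P (Spec (CommRingCat.of R))} {F' : BigSite.Ab P (Spec (CommRingCat.of R'))}
  (α : (BigSite.pullBig P (Spec.map (CommRingCat.ofHom ρ)) AddCommGrpCat.{u + 1}).obj F ≅ F') (n : ℕ)

/-- `Spec A` over `Spec R'` and over `Spec R`. -/
noncomputable def uIso {A : Type u} [CommRing A] (ψ : R' →+* A) (φ : R →+* A) (e : ψ.comp ρ = φ) :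
    (Over.map (Spec.map (CommRingCat.ofHom ρ))).obj (specOf ψ) ≅ specOf φ :=
  Over.isoMk (Iso.refl _) (by
    subst e
    exact (Category.id_comp _).trans (Spec.map_comp (CommRingCat.ofHom ρ) (CommRingCat.ofHom ψ)))

theorem uIso_nat {A B : Type u} [CommRing A] [CommRing B] (ψA : R' →+* A) (φA : R →+* A) (eA : ψA.comp ρ = φA)
    (ψB : R' →+* B) (φB : R →+* B) (eB : ψB.comp ρ = φB) (χ : A →+* B) (hφ : χ.comp φA = φB) (hψ : χ.comp ψA = ψB) :
    (Over.map (Spec.map (CommRingCat.ofHom ρ))).map (specOfHom ψA ψB χ hψ) ≫ (uIso ρ ψA φA eA).hom =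
      (uIso ρ ψB φB eB).hom ≫ specOfHom φA φB χ hφ := by
  ext1
  exact (Category.comp_id _).trans (Category.id_comp _).symm

/-- Cohomology of a sheaf on `Spec R` and of its restriction to `Spec R'`. -/
noncomputable def eps {A : Type u} [CommRing A] (ψ : R' →+* A) (φ : R →+* A) (e : ψ.comp ρ = φ) :
    𝓗.H F n (specOf φ) →+ 𝓗'.H F' n (specOf ψ) :=
  (𝓗'.map α.hom).comp ((C.e F n (specOf ψ)).symm.toAddMonoidHom.comp (𝓗.res (uIso ρ ψ φ e).hom))

/-- The inverse. -/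
noncomputable def eps' {A : Type u} [CommRing A] (ψ : R' →+* A) (φ : R →+* A) (e : ψ.comp ρ = φ) :
    𝓗'.H F' n (specOf ψ) →+ 𝓗.H F n (specOf φ) :=
  (𝓗.res (uIso ρ ψ φ e).inv).comp ((C.e F n (specOf ψ)).toAddMonoidHom.comp (𝓗'.map α.inv))

theorem eps'_eps {A : Type u} [CommRing A] (ψ : R' →+* A) (φ : R →+* A) (e : ψ.comp ρ = φ) (x : 𝓗.H F n (specOf φ)) :
    eps' ρ C α n ψ φ e (eps ρ C α n ψ φ e x) = x := by
  change 𝓗.res (uIso ρ ψ φ e).inv (C.e F n (specOf ψ) (𝓗'.map α.inv (𝓗'.map α.hom ((C.e F n (specOf ψ)).symm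
    (𝓗.res (uIso ρ ψ φ e).hom x))))) = x
  rw [← 𝓗'.map_comp, α.hom_inv_id, 𝓗'.map_id, AddEquiv.apply_symm_apply, ← 𝓗.res_comp, Iso.inv_hom_id, 𝓗.res_id]

theorem eps_eps' {A : Type u} [CommRing A] (ψ : R' →+* A) (φ : R →+* A) (e : ψ.comp ρ = φ)
    (x : 𝓗'.H F' n (specOf ψ)) : eps ρ C α n ψ φ e (eps' ρ C α n ψ φ e x) = x := by
  change 𝓗'.map α.hom ((C.e F n (specOf ψ)).symm (𝓗.res (uIso ρ ψ φ e).hom
    (𝓗.res (uIso ρ ψ φ e).inv (C.e F n (specOf ψ) (𝓗'.map α.inv x))))) = x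
  rw [← 𝓗.res_comp, Iso.hom_inv_id, 𝓗.res_id, AddEquiv.symm_apply_apply, ← 𝓗'.map_comp, α.inv_hom_id, 𝓗'.map_id]

variable {A B : Type u} [CommRing A] [CommRing B] {ψA : R' →+* A} {φA : R →+* A} (eA : ψA.comp ρ = φA)
  {ψB : R' →+* B} {φB : R →+* B} (eB : ψB.comp ρ = φB) (χ : A →+* B) (hφ : χ.comp φA = φB) (hψ : χ.comp ψA = ψB)

theorem eps_res (x : 𝓗.H F n (specOf φA)) :
    eps ρ C α n ψB φB eB (𝓗.res (specOfHom φA φB χ hφ) x) =
      𝓗'.res (specOfHom ψA ψB χ hψ) (eps ρ C α n ψA φA eA x) := by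
  change 𝓗'.map α.hom ((C.e F n (specOf ψB)).symm (𝓗.res (uIso ρ ψB φB eB).hom (𝓗.res (specOfHom φA φB χ hφ) x))) =
    𝓗'.res (specOfHom ψA ψB χ hψ) (𝓗'.map α.hom ((C.e F n (specOf ψA)).symm (𝓗.res (uIso ρ ψA φA eA).hom x)))
  rw [← 𝓗'.map_res, ← 𝓗.res_comp, ← uIso_nat ρ ψA φA eA ψB φB eB χ hφ hψ, 𝓗.res_comp]
  congr 1
  rw [AddEquiv.symm_apply_eq, C.e_res, AddEquiv.apply_symm_apply]

theorem eps'_res (x : 𝓗'.H F' n (specOf ψA)) :
    eps' ρ C α n ψB φB eB (𝓗'.res (specOfHom ψA ψB χ hψ) x) =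
      𝓗.res (specOfHom φA φB χ hφ) (eps' ρ C α n ψA φA eA x) := by
  have h := eps_res ρ C α n eA eB χ hφ hψ (eps' ρ C α n ψA φA eA x)
  rw [eps_eps'] at h
  rw [← h, eps'_eps]

include eA eB hψ C α in
theorem inj_iff : (∀ x : 𝓗.H F n (specOf φA), 𝓗.res (specOfHom φA φB χ hφ) x = 0 → x = 0) ↔
    (∀ x : 𝓗'.H F' n (specOf ψA), 𝓗'.res (specOfHom ψA ψB χ hψ) x = 0 → x = 0) := by
  constructor
  · intro h x hx
    have h1 := h (eps' ρ C α n ψA φA eA x) (by rw [← eps'_res ρ C α n eA eB χ hφ hψ, hx, map_zero])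
    rw [← eps_eps' ρ C α n ψA φA eA x, h1, map_zero]
  · intro h x hx
    have h1 := h (eps ρ C α n ψA φA eA x) (by rw [← eps_res ρ C α n eA eB χ hφ hψ, hx, map_zero])
    rw [← eps'_eps ρ C α n ψA φA eA x, h1, map_zero]

include eA C α in
theorem zero_iff : (∀ x : 𝓗.H F n (specOf φA), x = 0) ↔ (∀ x : 𝓗'.H F' n (specOf ψA), x = 0) := by
  constructor
  · intro h x
    rw [← eps_eps' ρ C α n ψA φA eA x, h (eps' ρ C α n ψA φA eA x), map_zero]
  · intro h x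
    rw [← eps'_eps ρ C α n ψA φA eA x, h (eps ρ C α n ψA φA eA x), map_zero]

section Fam

variable {ι : Type u} {D : ι → Type u} [∀ i, CommRing (D i)] {ψD : ∀ i, R' →+* D i} {φD : ∀ i, R →+* D i}
  (eD : ∀ i, (ψD i).comp ρ = φD i) (χD : ∀ i, A →+* D i) (hφD : ∀ i, (χD i).comp φA = φD i)
  (hψD : ∀ i, (χD i).comp ψA = ψD i)

include eA eD hψD C α in
theorem famInj_iff :
    (∀ x : 𝓗.H F n (specOf φA), (∀ i, 𝓗.res (specOfHom φA (φD i) (χD i) (hφD i)) x = 0) → x = 0) ↔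
    (∀ x : 𝓗'.H F' n (specOf ψA), (∀ i, 𝓗'.res (specOfHom ψA (ψD i) (χD i) (hψD i)) x = 0) → x = 0) := by
  constructor
  · intro h x hx
    have h1 := h (eps' ρ C α n ψA φA eA x) fun i => by
      rw [← eps'_res ρ C α n eA (eD i) (χD i) (hφD i) (hψD i), hx, map_zero]
    rw [← eps_eps' ρ C α n ψA φA eA x, h1, map_zero]
  · intro h x hx
    have h1 := h (eps ρ C α n ψA φA eA x) fun i => by
      rw [← eps_res ρ C α n eA (eD i) (χD i) (hφD i) (hψD i), hx, map_zero]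
    rw [← eps'_eps ρ C α n ψA φA eA x, h1, map_zero]

include eA eD hψD C α in
theorem famSurj_iff :
    (∀ y : ∀ i, 𝓗.H F n (specOf (φD i)), ∃ x : 𝓗.H F n (specOf φA),
      ∀ i, 𝓗.res (specOfHom φA (φD i) (χD i) (hφD i)) x = y i) ↔
    (∀ y : ∀ i, 𝓗'.H F' n (specOf (ψD i)), ∃ x : 𝓗'.H F' n (specOf ψA),
      ∀ i, 𝓗'.res (specOfHom ψA (ψD i) (χD i) (hψD i)) x = y i) := by
  constructor
  · intro h y
    obtain ⟨x, hx⟩ := h fun i => eps' ρ C α n (ψD i) (φD i) (eD i) (y i)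
    refine ⟨eps ρ C α n ψA φA eA x, fun i => ?_⟩
    rw [← eps_res ρ C α n eA (eD i) (χD i) (hφD i) (hψD i), hx, eps_eps']
  · intro h y
    obtain ⟨x, hx⟩ := h fun i => eps ρ C α n (ψD i) (φD i) (eD i) (y i)
    refine ⟨eps' ρ C α n ψA φA eA x, fun i => ?_⟩
    rw [← eps'_res ρ C α n eA (eD i) (χD i) (hφD i) (hψD i), hx, eps'_eps]

end Fam

end General

section Adele

variable {k K : Type u} [Field k] [Field K] [Algebra k K] {S : Set (Place k K)}

section One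

variable (𝓗 : CohT Scheme.fppfPrecoverage (Spec (CommRingCat.of (SInt S))))
  (F : BigSite.Ab Scheme.fppfPrecoverage (Spec (CommRingCat.of (SInt S)))) (n : ℕ)

/-- Injectivity of `H^n(∏_{v ∉ T} O_v) → ∏_{v ∉ T} H^n(O_v)`. -/
def PInj {T : Set (Place k K)} (h : S ⊆ T) : Prop :=
  ∀ x : 𝓗.H F n (specOf (toOH h)), (∀ v (hv : v ∉ T), 𝓗.res (ohHom h hv) x = 0) → x = 0

/-- Surjectivity of `H^n(∏_{v ∉ T} O_v) → ∏_{v ∉ T} H^n(O_v)`. -/
def PSurj {T : Set (Place k K)} (h : S ⊆ T) : Prop :=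
  ∀ y : ∀ (v : Place k K) (hv : v ∉ T), 𝓗.H F n (specOf (SInt.toOv S fun h' => hv (h h'))),
    ∃ x : 𝓗.H F n (specOf (toOH h)), ∀ v (hv : v ∉ T), 𝓗.res (ohHom h hv) x = y v hv

/-- Vanishing of `H^n(∏_{v ∉ T} O_v)`. -/
def PZero {T : Set (Place k K)} (h : S ⊆ T) : Prop := ∀ x : 𝓗.H F n (specOf (toOH h)), x = 0

variable {T T' : Set (Place k K)} (h : S ⊆ T) (h' : T ⊆ T')

/-- The factors of `∏_{v ∉ T} O_v`. -/
abbrev FacO (T T' : Set (Place k K)) : Option {v : Place k K // v ∈ T' ∧ v ∉ T} → Type u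
  | none => OHat T'
  | some v => Ov v.1

noncomputable instance (T T' : Set (Place k K)) : ∀ i, CommRing (FacO T T' i)
  | none => inferInstanceAs (CommRing (OHat T'))
  | some v => inferInstanceAs (CommRing (Ov v.1))

/-- The structure maps of the factors. -/
noncomputable def facOStr : ∀ i, SInt S →+* FacO T T' i
  | none => toOH (h.trans h')
  | some v => SInt.toOv S fun hv => v.2.2 (h hv)

/-- Forgetting components. -/
noncomputable def toOHat' (h' : T ⊆ T') : OHat T →+* OHat T' :=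
  RingHom.pi fun w : {w : Place k K // w ∉ T'} => OHat.proj T fun hw => w.2 (h' hw)

/-- The projections to the factors. -/
noncomputable def facOProj : ∀ i, OHat T →+* FacO T T' i
  | none => toOHat' h'
  | some v => OHat.proj T v.2.2

theorem facOProj_comp : ∀ i, (facOProj h' i).comp (toOH h) = facOStr h h' i
  | none => rfl
  | some _ => rfl

theorem facOProj_bijective : Function.Bijective (fun (b : OHat T) i => facOProj h' i b) := by
  classical
  constructor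
  · intro a b hab
    funext v
    by_cases hv : v.1 ∈ T'
    · exact congrFun hab (some ⟨v.1, hv, v.2⟩)
    · exact congrFun (congrFun hab none : (toOHat' h' a : OHat T') = toOHat' h' b) ⟨v.1, hv⟩
  · intro c
    refine ⟨fun v => if hv : v.1 ∈ T' then c (some ⟨v.1, hv, v.2⟩) else (c none : OHat T') ⟨v.1, hv⟩, ?_⟩
    funext i
    match i with
    | none =>
      funext w
      change (if hv : w.1 ∈ T' then _ else _) = _
      rw [dif_neg w.2]
    | some v =>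
      change (if hv : v.1 ∈ T' then _ else _) = _
      rw [dif_pos v.2.1]

/-- `Spec ∏_{v ∉ T} O_v` is the disjoint union of the `Spec O_v`, `v ∈ T' - T`, and of `Spec ∏_{v ∉ T'} O_v`. -/
theorem isDisj_OH (hT' : T'.Finite) :
    IsDisj Scheme.fppfPrecoverage
      (fun i => specOfHom (toOH h) (facOStr h h' i) (facOProj h' i) (facOProj_comp h h' i)) := by
  have : Finite {v : Place k K // v ∈ T' ∧ v ∉ T} := (hT'.subset fun _ h => h.1 :
    {v | v ∈ T' ∧ v ∉ T}.Finite).to_subtype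
  exact isDisj_of_bijective (FacO T T') (toOH h) (facOStr h h') (facOProj h') (facOProj_comp h h')
    (facOProj_bijective h')

variable {𝓗 F n} {h}

/-- `H^n(∏_{v ∉ T} O_v) → H^n(∏_{v ∉ T'} O_v)`. -/
noncomputable def rOO (h : S ⊆ T) : 𝓗.H F n (specOf (toOH h)) →+ 𝓗.H F n (specOf (toOH (h.trans h'))) :=
  𝓗.res (specOfHom (toOH h) (toOH (h.trans h')) (toOHat' h') (facOProj_comp h h' none))

theorem res_rOO (x : 𝓗.H F n (specOf (toOH h))) {v : Place k K} (hv : v ∉ T') :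
    𝓗.res (ohHom (h.trans h') hv) (rOO h' h x) = 𝓗.res (ohHom h fun hw => hv (h' hw)) x :=
  res_res 𝓗 _ _ _ _ _ _ rfl x

theorem exists_glue_OH (hT' : T'.Finite) (a : 𝓗.H F n (specOf (toOH (h.trans h'))))
    (b : ∀ (v : Place k K) (hv : v ∉ T), 𝓗.H F n (specOf (SInt.toOv S fun hw => hv (h hw)))) :
    ∃ y : 𝓗.H F n (specOf (toOH h)), rOO h' h y = a ∧ ∀ v (hv : v ∉ T), v ∈ T' → 𝓗.res (ohHom h hv) y = b v hv := by
  obtain ⟨y, hy⟩ := DisjVan.exists_glue 𝓗 (isDisj_OH h h' hT') n F (fun i => match i with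
    | none => a
    | some v => b v.1 v.2.2)
  exact ⟨y, hy none, fun v hv hv' => hy (some ⟨v, hv', hv⟩)⟩

theorem PInj.mono (H : PInj 𝓗 F n h) (hT' : T'.Finite) : PInj 𝓗 F n (h.trans h') := by
  classical
  intro x hx
  obtain ⟨y, hy1, hy2⟩ := exists_glue_OH (h := h) h' hT' x (fun v hv => 0)
  rw [← hy1, H y, map_zero]
  intro v hv
  by_cases hv' : v ∈ T'
  · exact hy2 v hv hv'
  · rw [← res_rOO h' y hv', hy1, hx]

theorem PSurj.mono (H : PSurj 𝓗 F n h) (h' : T ⊆ T') : PSurj 𝓗 F n (h.trans h') := by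
  classical
  intro y
  obtain ⟨x, hx⟩ := H fun v hv => if hv' : v ∈ T' then 0 else y v hv'
  refine ⟨rOO h' h x, fun v hv => ?_⟩
  rw [res_rOO, hx, dif_neg hv]

theorem PZero.mono (H : PZero 𝓗 F n h) (hT' : T'.Finite) : PZero 𝓗 F n (h.trans h') := by
  intro x
  obtain ⟨y, hy1, hy2⟩ := exists_glue_OH (h := h) h' hT' x (fun v hv => 0)
  rw [← hy1, H y, map_zero]

end One

section Two

variable {T₁ : Set (Place k K)} (h₁ : S ⊆ T₁)

theorem sInt_mono {S T₁ : Set (Place k K)} (h₁ : S ⊆ T₁) : (SInt S : Subalgebra k K) ≤ SInt T₁ :=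
  fun _ hx v hv => hx v fun h' => hv (h₁ h')

/-- The inclusion `O_S ⊆ O_{T₁}`. -/
noncomputable def inc : SInt S →+* SInt T₁ := (Subalgebra.inclusion (sInt_mono h₁)).toRingHom

variable {𝓗 : CohT Scheme.fppfPrecoverage (Spec (CommRingCat.of (SInt S)))}
  {F : BigSite.Ab Scheme.fppfPrecoverage (Spec (CommRingCat.of (SInt S)))} {n : ℕ}
  {𝓗' : CohT Scheme.fppfPrecoverage (Spec (CommRingCat.of (SInt T₁)))}
  {F' : BigSite.Ab Scheme.fppfPrecoverage (Spec (CommRingCat.of (SInt T₁)))}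
  (C : CohCmp (Spec.map (CommRingCat.ofHom (inc h₁))) 𝓗 𝓗')
  (α : (BigSite.pullBig Scheme.fppfPrecoverage (Spec.map (CommRingCat.ofHom (inc h₁))) AddCommGrpCat.{u + 1}).obj F ≅
    F')

include C α

theorem pInj_iff {T : Set (Place k K)} (h : T₁ ⊆ T) : PInj 𝓗 F n (h₁.trans h) ↔ PInj 𝓗' F' n h := by
  have H := famInj_iff (inc h₁) C α n (A := OHat T) (φA := toOH (h₁.trans h)) (ψA := toOH h) rfl
    (ι := {v : Place k K // v ∉ T}) (D := fun v => Ov v.1) (φD := fun v => SInt.toOv S fun h' => v.2 (h (h₁ h')))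
    (ψD := fun v => SInt.toOv T₁ fun h' => v.2 (h h')) (fun _ => rfl) (fun v => OHat.proj T v.2) (fun _ => rfl)
    (fun _ => rfl)
  constructor
  · intro H1 x hx
    exact H.1 (fun x hx => H1 x fun v hv => hx ⟨v, hv⟩) x fun v => hx v.1 v.2
  · intro H1 x hx
    exact H.2 (fun x hx => H1 x fun v hv => hx ⟨v, hv⟩) x fun v => hx v.1 v.2

theorem pSurj_iff {T : Set (Place k K)} (h : T₁ ⊆ T) : PSurj 𝓗 F n (h₁.trans h) ↔ PSurj 𝓗' F' n h := by
  have H := famSurj_iff (inc h₁) C α n (A := OHat T) (φA := toOH (h₁.trans h)) (ψA := toOH h) rfl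
    (ι := {v : Place k K // v ∉ T}) (D := fun v => Ov v.1) (φD := fun v => SInt.toOv S fun h' => v.2 (h (h₁ h')))
    (ψD := fun v => SInt.toOv T₁ fun h' => v.2 (h h')) (fun _ => rfl) (fun v => OHat.proj T v.2) (fun _ => rfl)
    (fun _ => rfl)
  constructor
  · intro H1 y
    obtain ⟨x, hx⟩ := H.1 (fun y => by
      obtain ⟨x, hx⟩ := H1 fun v hv => y ⟨v, hv⟩
      exact ⟨x, fun v => hx v.1 v.2⟩) (fun v => y v.1 v.2)
    exact ⟨x, fun v hv => hx ⟨v, hv⟩⟩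
  · intro H1 y
    obtain ⟨x, hx⟩ := H.2 (fun y => by
      obtain ⟨x, hx⟩ := H1 fun v hv => y ⟨v, hv⟩
      exact ⟨x, fun v => hx v.1 v.2⟩) (fun v => y v.1 v.2)
    exact ⟨x, fun v hv => hx ⟨v, hv⟩⟩

theorem pZero_iff {T : Set (Place k K)} (h : T₁ ⊆ T) : PZero 𝓗 F n (h₁.trans h) ↔ PZero 𝓗' F' n h :=
  zero_iff (inc h₁) C α n (A := OHat T) (φA := toOH (h₁.trans h)) (ψA := toOH h) rfl

theorem inj_int_iff {v : Place k K} (hv : v ∉ T₁) :
    (∀ x : 𝓗.H F n (specOf (SInt.toOv S fun h' => hv (h₁ h'))), 𝓗.res (intResHom S fun h' => hv (h₁ h')) x = 0 → x = 0) ↔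
    (∀ x : 𝓗'.H F' n (specOf (SInt.toOv T₁ hv)), 𝓗'.res (intResHom T₁ hv) x = 0 → x = 0) :=
  inj_iff (inc h₁) C α n (A := Ov v) (B := Kv v) (φA := SInt.toOv S fun h' => hv (h₁ h')) (ψA := SInt.toOv T₁ hv) rfl
    (φB := SInt.toKv S v) (ψB := SInt.toKv T₁ v) rfl (Ov v).subtype (RingHom.ext fun _ => rfl)
    (RingHom.ext fun _ => rfl)

theorem zero_loc_iff (v : Place k K) :
    (∀ x : 𝓗.H F n (specOf (SInt.toKv S v)), x = 0) ↔ (∀ x : 𝓗'.H F' n (specOf (SInt.toKv T₁ v)), x = 0) :=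
  zero_iff (inc h₁) C α n (A := Kv v) (φA := SInt.toKv S v) (ψA := SInt.toKv T₁ v) rfl

end Two

end Adele

end K963.Trans
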